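import Cfsg.Agent.U4T.Gen

/-!
`A = 2⁴` is weakly closed and automorphisms of overgroups are determined by their restrictions.  Finite checks: `decide +kernel`
over `S` (instances `decAll`, `decEx`) or over codes (`cd_mul`, `cd_inv`, `m`, `iv`, `allLT`, `anyLT`, `and'`, `or'` of `Comp/Basic`).
ALWAYS run lean with `timeout 300`.
-/

set_option autoImplicit false
set_option linter.unusedSimpArgs false
set_option maxRecDepth 100000
set_option synthInstance.maxSize 2000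

namespace Cfsg.Agent.U4T

open Subgroup Cfsg.Agent.RFS Cfsg.Agent.Fus Cfsg.FusionSystem Cfsg.Agent.SpF Cfsg.Agent.U5F Cfsg.Agent.Comp

variable {F F' : FusionSystem (⊤ : Subgroup S)}

/-- If `g = f x ∉ As` then `v ↦ cd (f (cJ.e v))` maps `range 16` injectively (`hf.inj`, `cJ.jv_e`) into
`(range 64).filter fun k => m k k = 0 ∧ m n k = m k n`, `n = cd g` (`U4F.com_As`, all elements of `As` have square 1), which has at most
12 elements when `n % 4 ≠ 0`, `m n n = 0` (decide); `Finset.card_le_card_of_injOn`. -/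
theorem u16 {f : S → S} (hf : IsMap F As f) : ∀ x ∈ As, f x ∈ As := by
  intro x hx
  by_contra n
  have sq : ∀ y ∈ As, y * y = 1 := by decide +kernel
  have sq' : ∀ y ∈ As, m (cd (f y)) (cd (f y)) = 0 := fun y hy => by
    rw [← cd_mul, ← hf.map_mul hy hy, sq y hy, hf.map_one, cd_one]
  have k : ∀ n < 64, n % 4 ≠ 0 → m n n = 0 → ((Finset.range 64).filter fun k => m k k = 0 ∧ m n k = m k n).card ≤ 12 := by
    decide +kernel
  have := (Finset.card_le_card_of_injOn (s := Finset.range 16) (fun v => cd (f (cJ.e v))) (fun v _ => ?_)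
    fun u hu v hv e => ?_).trans (k _ (cd_lt (f x)) (mt (As_cd _).2 n) (sq' x hx))
  · simp at this
  · refine Finset.mem_coe.2 (Finset.mem_filter.2 ⟨Finset.mem_range.2 (cd_lt _), sq' _ (cJ.mem v), ?_⟩)
    rw [← cd_mul, ← cd_mul, ← hf.map_mul hx (cJ.mem v), ← hf.map_mul (cJ.mem v) hx, U4F.com_As hx (cJ.mem v)]
  · rw [← cJ.jv_e u (by simpa using hu), hf.inj (cJ.mem u) (cJ.mem v) (cd_inj.1 e), cJ.jv_e v (by simpa using hv)]

/-- `IsMap.exists_aut'`. -/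
theorem resA {R : Subgroup S} {f : S → S} (hR : As ≤ R) (hf : IsMap F R f) :
    ∃ α ∈ F.autGroup As, ∀ x ∈ As, afn α x = f x := by
  exact (hf.mono hR).exists_aut' (u16 (hf.mono hR))

theorem exta_fn : F.IsFullyNormalized As := fullyNormalized_of_le_normalizer F le_top le_normalizer_of_normal

/-- `Tn_eq`, `sat_fullyAutomized pT hF (fullyNormalized_of_le_normalizer ..)`, `res_mem (conj_mem_AS F g)`. -/
theorem sylA (hF : F.IsSaturated 2) : Tn As ≤ F.autGroup As ∧ SylIn 2 (Tn As) (F.autGroup As) := by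
  refine ⟨?_, Tn_eq As ▸ (sat_fullyAutomized pT hF exta_fn).2⟩
  rintro _ ⟨g, rfl⟩
  exact res_mem (conj_mem_AS F g)

theorem h1a : ∀ a b : S, a ∉ As → a⁻¹ * b ∈ As → a * a = b * b → ∃ j ∈ As, a = j * b * j⁻¹ := by
  have k : ∀ a < 64, ∀ b < 64, ¬ a % 4 = 0 → m (iv a) b % 4 = 0 → m a a = m b b →
      ∃ j < 64, j % 4 = 0 ∧ a = m (m j b) (iv j) := by decide +kernel
  intro a b h1 h2 h3
  simp only [As_cd, ← cd_inj, cd_mul, cd_inv] at h1 h2 h3 ⊢
  obtain ⟨j, hj, e⟩ := k _ (cd_lt a) _ (cd_lt b) h1 h2 h3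
  exact ⟨el j, by rwa [cd_el j hj]⟩

theorem exta_chk : allLT 64 (fun a => force a fun a => or' (Nat.beq (Nat.mod a 4) 0) (allLT 64 fun b => force b fun b =>
    or' (not' (Nat.beq (Nat.mod (m (iv a) b) 4) 0)) (or' (not' (Nat.beq (m a a) (m b b))) (allLT 64 fun a' => force a' fun a' =>
    or' (Nat.beq (Nat.mod a' 4) 0) (force (m a a') fun c => or' (Nat.beq (Nat.mod c 4) 0) (force (iv a') fun i =>
    force (m a' a') fun s => force (m c c) fun t => allLT 64 fun b' => force b' fun b' =>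
    or' (not' (Nat.beq (Nat.mod (m i b') 4) 0)) (or' (not' (Nat.beq s (m b' b'))) (or' (not' (Nat.beq t (m (m b b') (m b b'))))
    (anyLT 64 fun j => force j fun j => and' (Nat.beq (Nat.mod j 4) 0) (and' (Nat.beq a (m (m j b) (iv j)))
      (Nat.beq a' (m (m j b') (iv j))))))))))))) = true := by
  decide +kernel

/-- On codes: `a % 4 = b % 4 ≠ 0`, `a' % 4 = b' % 4 ∉ {0, a % 4}`; order the loops `a, b, test, a', b', tests, j`. -/
theorem h1b : ∀ a b a' b' : S, a ∉ As → a' ∉ As → a * a' ∉ As → a⁻¹ * b ∈ As → a'⁻¹ * b' ∈ As → a * a = b * b →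
    a' * a' = b' * b' → a * a' * (a * a') = b * b' * (b * b') → ∃ j ∈ As, a = j * b * j⁻¹ ∧ a' = j * b' * j⁻¹ := by
  intro a b a' b' h1 h2 h3 h4 h5 h6 h7 h8
  have k := exta_chk
  simp only [allLT_iff, anyLT_iff, force_eq, or'_eq_true, and'_eq_true, not'_eq_true, Nat.beq_eq, show ∀ a b, Nat.mod a b = a % b from fun _ _ => rfl,
    or_iff_not_imp_left, not_not] at k
  simp only [As_cd, ← cd_inj, cd_mul, cd_inv] at h1 h2 h3 h4 h5 h6 h7 h8 ⊢
  obtain ⟨j, hj, e⟩ := k _ (cd_lt a) h1 _ (cd_lt b) h4 h6 _ (cd_lt a') h2 h3 _ (cd_lt b') h5 h7 h8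
  exact ⟨el j, by rwa [cd_el j hj]⟩

/-- Let `f = afn α`.  By `resA`, `h`: `IsMap F' As f`, `img As f = As`; `R ≤ Nf ⊤ As f` (`IsMap.le_Nf_of_ext` or `mem_Nf` with `f a`);
`sat_extend pT hF' _ (sat_fullyCentralized ..)` gives `IsMap F' R g`, `g = f` on `As`.  For `a ∈ R`: `(f a)⁻¹ * g a` centralises
`f As = As`, so is in `As` (`U4F.mem_As_of_comm`); `a * a ∈ As` so `f a * f a = g a * g a`; `f a ∉ As` if `a ∉ As` (injectivity).
`R = Ey y`: `a = U4F.Xy y`, each `x ∈ R` has `x ∈ As` or `x * a⁻¹ ∈ As` (decide), `h1a`.  `R = ⊤`: `a = el 1`, `a' = el 2`, one of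
`x, x a⁻¹, x a'⁻¹, x (a a')⁻¹` is in `As`, `h1b`.  So `f = j g j⁻¹` on `R` (`j ∈ As` commutes with `As`), `IsMap.comp'` with
`isMap_conj`, `mem_autGroup_of_isMap`. -/
theorem extR (hF' : F'.IsSaturated 2) (h : F.autGroup As ≤ F'.autGroup As) {R : Subgroup S}
    (hR : R = ⊤ ∨ ∃ y, y ≠ 0 ∧ R = Ey y) : F.autGroup R ≤ F'.autGroup R := by
  intro α hα
  have hA : As ≤ R := by
    rcases hR with rfl | ⟨y, -, rfl⟩
    exacts [le_top, U4F.As_le_Ey]
  have hf := (mem_autGroup le_top).1 hα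
  generalize hfe : afn α = f at hf
  obtain ⟨β, hβ, e⟩ := resA hA hf
  have hf' : IsMap F' As f := ((mem_autGroup le_top).1 (h hβ)).congr e
  have im : img As f = As := hf'.img_eq_self (u16 hf')
  obtain ⟨g, hg, eg⟩ := sat_extend pT hF' hf' (by rw [im]; exact sat_fullyCentralized pT hF' exta_fn)
    (hf.le_Nf_of_ext hA (fun s _ => mem_normalizerIn_of_conj trivial fun _ hx => Normal.conj_mem inferInstance _ hx s)
      fun _ _ => rfl)
  have k1 : ∀ a ∈ R, (f a)⁻¹ * g a ∈ As := fun a ha => U4F.mem_As_of_comm fun z => by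
    obtain ⟨n, hn, e⟩ := hf'.mem_img.1 (im.ge (show U4F.Xw z ∈ As from rfl))
    have := eg _ (Normal.conj_mem inferInstance n hn a)
    rw [hf.map_conj ha (hA hn), hg.map_conj ha (hA hn), eg n hn, e] at this
    calc _ = (f a)⁻¹ * (g a * U4F.Xw z * (g a)⁻¹) * g a := by group
      _ = _ := by rw [this]; group
  have sq : ∀ a : S, a * a ∈ As := by decide +kernel
  have k2 : ∀ a ∈ R, f a * f a = g a * g a := fun a ha => by rw [← hf.map_mul ha ha, ← hg.map_mul ha ha, eg _ (sq a)]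
  have k3 : ∀ a ∈ R, a ∉ As → f a ∉ As := fun a ha n c => n (hf.mem_of_mem_img hA ha (im.ge c))
  suffices k : ∃ j ∈ As, ∀ x ∈ R, f x = j * g x * j⁻¹ by
    obtain ⟨j, -, k⟩ := k
    exact mem_autGroup_of_isMap ((isMap_conj F' le_rfl (mem_top j)).comp' hg fun _ _ => mem_top _) (hfe ▸ k)
  have k4 : ∀ j ∈ As, ∀ x ∈ As, f x = j * g x * j⁻¹ := fun j hj x hx => by
    rw [eg x hx, U4F.com_As hj (u16 hf' x hx), mul_inv_cancel_right]
  have k5 : ∀ j : S, ∀ x ∈ R, ∀ y ∈ R, f x = j * g x * j⁻¹ → f y = j * g y * j⁻¹ → f (x * y) = j * g (x * y) * j⁻¹ :=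
    fun j x hx y hy e1 e2 => by rw [hf.map_mul hx hy, hg.map_mul hx hy, e1, e2, conj_mul]
  have k6 : ∀ j ∈ As, ∀ x : S, ∀ a ∈ R, x * a⁻¹ ∈ As → f a = j * g a * j⁻¹ → f x = j * g x * j⁻¹ := fun j hj x a ha c e => by
    simpa using k5 j _ (hA c) a ha (k4 j hj _ c) e
  rcases hR with rfl | ⟨y, hy, rfl⟩
  · have d : el 1 ∉ As ∧ el 2 ∉ As ∧ el 1 * el 2 ∉ As ∧
        ∀ x : S, x ∈ As ∨ x * (el 1)⁻¹ ∈ As ∨ x * (el 2)⁻¹ ∈ As ∨ x * (el 1 * el 2)⁻¹ ∈ As := by decide +kernel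
    have t := fun x : S => mem_top x
    obtain ⟨j, hj, e1, e2⟩ := h1b _ _ _ _ (k3 _ (t _) d.1) (k3 _ (t _) d.2.1) (hf.map_mul (t _) (t _) ▸ k3 _ (t _) d.2.2.1)
      (k1 _ (t _)) (k1 _ (t _)) (k2 _ (t _)) (k2 _ (t _)) (by rw [← hf.map_mul (t _) (t _), ← hg.map_mul (t _) (t _), k2 _ (t _)])
    refine ⟨j, hj, fun x _ => ?_⟩
    rcases d.2.2.2 x with c | c | c | c
    exacts [k4 j hj x c, k6 j hj x _ (t _) c e1, k6 j hj x _ (t _) c e2, k6 j hj x _ (t _) c (k5 j _ (t _) _ (t _) e1 e2)]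
  · have d : U4F.Xy y ∈ Ey y ∧ U4F.Xy y ∉ As ∧ ∀ x ∈ Ey y, x ∈ As ∨ x * (U4F.Xy y)⁻¹ ∈ As := by
      clear * - hy
      cases y
      exacts [absurd rfl hy, by decide +kernel, by decide +kernel, by decide +kernel]
    obtain ⟨j, hj, e1⟩ := h1a _ _ (k3 _ d.1 d.2.1) (k1 _ d.1) (k2 _ d.1)
    exact ⟨j, hj, fun x hx => (d.2.2 x hx).elim (k4 j hj x) fun c => k6 j hj x _ d.1 c e1⟩

end Cfsg.Agent.U4T
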