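import Cfsg.Agent.U4T.Q
import Cfsg.Agent.U4T.ExtA

/-!
Comparison of fusion systems and the three strongly closed subgroups `As`, `Z1`, `V1`.
-/

set_option autoImplicit false
set_option linter.unusedSimpArgs false
set_option maxRecDepth 100000

namespace Cfsg.Agent.U4T

open Subgroup Cfsg.Agent.RFS Cfsg.Agent.Fus Cfsg.FusionSystem Cfsg.Agent.SpF Cfsg.Agent.U5F Cfsg.Agent.Comp

variable {F F' : FusionSystem (⊤ : Subgroup S)}

theorem le_of (hF : F.IsSaturated 2) (hF' : F'.IsSaturated 2) (h : F.autGroup As ≤ F'.autGroup As)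
    (hω : U4F.ω0 K4 ∈ F'.autGroup Qs) : F ≤ F' := by
  refine alperin_le pT hF F' fun P hP => ?_
  rcases hP with rfl | hP
  · exact extR hF' h (.inl rfl)
  rcases ess hF hP with rfl | rfl | e
  · exact genQ (U5F.sa_AS pT hF) (U5F.lc_AS pT hF hP) hω fun φ hφ => U5F.res_mem (((mem_autGroup le_rfl).1
      (extR hF' h (.inl rfl) (U5F.res_mem (E := ⊤) hφ))).congr fun x hx => U5F.afn_res φ hx)
  · exact h
  · exact extR hF' h (.inr e)

theorem sc (hF : F.IsSaturated 2) (hc : F.core = ⊥) {V : Subgroup S} (hab : ∀ x ∈ V, ∀ y ∈ V, x * y = y * x)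
    (h : ∀ R, R = ⊤ ∨ F.IsEssential 2 R → ∀ g, IsMap F R g → img R g = R → ∀ x ∈ R, x ∈ V → g x ∈ V) : V = ⊥ :=
  eq_bot_iff.2 (hc ▸ le_core (isNormal_of_abelian pT hF (stronglyClosed_iff.2 ⟨le_top, fun P _ hf =>
    alperin_induction pT hF (M := fun f => ∀ x ∈ P, x ∈ V → f x ∈ V) (fun _ e x hx hv => (e x hx).symm ▸ hv)
      (fun _ g _ R _ m hR hg e a b x hx hv => (b x hx).symm ▸ h R hR g hg e _ (a x hx) (m x hx hv)) hf⟩) hab))

theorem extb_cases (hF : F.IsSaturated 2) {R : Subgroup S} (hR : R = ⊤ ∨ F.IsEssential 2 R) :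
    (R = Qs ∧ F.IsEssential 2 Qs) ∨ As ≤ R := by
  rcases hR with rfl | hR
  · exact .inr le_top
  rcases ess hF hR with rfl | rfl | ⟨y, -, rfl⟩
  exacts [.inl ⟨rfl, hR⟩, .inr le_rfl, .inr U4F.As_le_Ey]

theorem essQ (hF : F.IsSaturated 2) (hc : F.core = ⊥) : F.IsEssential 2 Qs := by
  by_contra n
  have := sc hF hc (V := As) (by decide +kernel) fun R hR g hg _ x _ hx =>
    u16 (hg.mono ((extb_cases hF hR).resolve_left fun e => n e.2)) x hx
  exact (by decide +kernel : el 4 ≠ 1) (mem_bot.1 (this ▸ (by decide +kernel : el 4 ∈ As)))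

theorem not_fix (hF : F.IsSaturated 2) (hc : F.core = ⊥) : ¬ ∀ α ∈ F.autGroup As, app (cJ.ρ α) 8 = 8 := fun h => by
  have m : el 32 ∈ As := by decide +kernel
  have := sc hF hc (V := Z1) (by decide +kernel) fun R hR g hg e x hx hz => by
    rcases extb_cases hF hR with ⟨rfl, -⟩ | le
    · obtain ⟨α, -, a⟩ := hg.exists_aut e
      exact a x hx ▸ U4F.chQ_Z1 α x hx hz
    obtain ⟨α, hα, a⟩ := resA le hg
    rcases (by decide +kernel : ∀ x ∈ Z1, x = 1 ∨ x = el 32) x hz with rfl | rfl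
    · rwa [hg.homOn.map_one]
    · rwa [← a _ m, As_inj _ (afn_mem α m) _ m ((cJ.jv_afn α m).trans (h α hα))]
  exact (by decide +kernel : el 32 ≠ 1) (mem_bot.1 (this ▸ (by decide +kernel : el 32 ∈ Z1)))

theorem not_cen (hF : F.IsSaturated 2) (hc : F.core = ⊥) :
    ¬ ∀ α ∈ F.autGroup As, mm (cJ.ρ α) 36257 = mm 36257 (cJ.ρ α) := fun h => by
  have key : ∀ R, As ≤ R → ∀ g, IsMap F R g → ∀ x ∈ R, x ∈ V1 → g x ∈ V1 := fun R le g hg x hx hv => by
    obtain ⟨α, hα, a⟩ := resA le hg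
    have c : α * cA (el 1) = cA (el 1) * α := ρJ_inj (by
      rw [cJ.ρ_mul, cJ.ρ_mul, ρ_cA]; exact h α hα)
    have n : ∀ y ∈ As, el 1 * y * (el 1)⁻¹ ∈ As := by decide +kernel
    have e : ∀ y ∈ As, g (el 1 * y * (el 1)⁻¹) = el 1 * g y * (el 1)⁻¹ := fun y hy => by
      rw [← a _ (n y hy), ← U4F.afn_cA _ hy, ← afn_mul _ _ hy, c, afn_mul _ _ hy, U4F.afn_cA _ (afn_mem α hy), a y hy]
    by_cases hA : x ∈ As
    · have t : ∀ y ∈ As, y ∈ V1 ↔ el 1 * y * (el 1)⁻¹ = y := by decide +kernel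
      rw [t _ (a x hA ▸ afn_mem α hA), ← e x hA, (t x hA).1 hv]
    have t : ∀ x ∈ V1, x ∉ As → x * x = 1 ∧ ∀ y ∈ As, x * y * x⁻¹ = el 1 * y * (el 1)⁻¹ := by decide +kernel
    refine (by decide +kernel : ∀ y : S, (el 1)⁻¹ * y ∈ As → y * y = 1 → y ∈ V1) _ (U4F.mem_As_of_comm fun w => ?_)
      (by rw [← hg.homOn _ hx _ hx, (t x hv hA).1, hg.homOn.map_one])
    have m : (U4F.Xw w : S) ∈ As := rfl
    have m' := afn_mem α⁻¹ m
    have := hg.homOn.map_conj hx (le m')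
    rw [(t x hv hA).2 _ m', e _ m', ← a _ m', afn_afn_inv α m] at this
    calc _ = (el 1)⁻¹ * (g x * U4F.Xw w * (g x)⁻¹) * g x := by group
      _ = _ := by rw [← this]; group
  have := sc hF hc (V := V1) (by decide +kernel) fun R hR g hg e x hx hz => by
    rcases extb_cases hF hR with ⟨rfl, hE⟩ | le
    swap
    · exact key R le g hg x hx hz
    obtain ⟨α, hα, a⟩ := hg.exists_aut e
    exact a x hx ▸ genQ (U5F.sa_AS pT hF) (U5F.lc_AS pT hF hE)
      (C := ⟨⟨⟨{β | ∀ x ∈ Qs, x ∈ V1 → afn β x ∈ V1}, fun {β γ} b c x hx hv => by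
        rw [afn_mul _ _ hx]; exact b _ (afn_mem γ hx) (c x hx hv)⟩, fun x _ hv => by rwa [afn_one]⟩,
        fun b => U5F.inv_pres b⟩)
      (fun x hx hv => by rw [U4F.afn_ω0 hx]; revert x; decide +kernel)
      (fun φ hφ x hx hv => by rw [U5F.afn_res φ hx]; exact key ⊤ le_top φ hφ x trivial hv) hα x hx hz
  exact (by decide +kernel : el 4 ≠ 1) (mem_bot.1 (this ▸ (by decide +kernel : el 4 ∈ V1)))

end Cfsg.Agent.U4T
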