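import Cfsg.Agent.U4T.Gen

/-!
The fusion systems of `SU₄(2)` and of `GL₄(2)`.  ALWAYS run lean with `timeout 300`.
-/

set_option autoImplicit false
set_option linter.unusedSimpArgs false
set_option maxRecDepth 100000

namespace Cfsg.Agent.U4T

open Subgroup Cfsg.Agent.RFS Cfsg.Agent.Fus Cfsg.FusionSystem Cfsg.Agent.SpF Cfsg.Agent.U5F Cfsg.Agent.Comp

/-- Copy the first half of `U4F.exists_model` (`U4F/Fin`). -/
theorem model {G : Type} [Group G] [Finite G] (ι : S →* G) (hι : Function.Injective ι) (hi : ¬ 2 ∣ ι.range.index) :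
    ∃ F₀ : FusionSystem (⊤ : Subgroup S), F₀.IsRealizable 2 ∧ F₀.IsSaturated 2 ∧
      ∀ (P : Subgroup S) (f : S → S) (g : G), (∀ u ∈ P, g * ι u * g⁻¹ = ι (f u)) → IsMap F₀ P f := by
  let j := ι.comp (⊤ : Subgroup S).subtype
  have hr : j.range = ι.range := by rw [MonoidHom.range_comp, range_subtype, ← MonoidHom.range_eq_map]
  obtain ⟨b, hb⟩ := gIso_of_injective j (hι.comp Subtype.val_injective)
  obtain ⟨F₀, h⟩ := exists_fIso (groupFusionSystem j.range) hb.symm
  have h3 : F₀.IsRealizedBy j := isRealizedBy_of_fIso h.symm fun x => (hfn_apply j x.2).symm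
  have h4 : ∃ T : Sylow 2 G, (T : Subgroup G) = j.range :=
    ⟨((U4F.isPGroup_U 2).of_surjective _ ι.rangeRestrict_surjective).toSylow hi, hr.symm⟩
  have e : ∀ x, hfn j x = ι x := fun x => hfn_apply j (mem_top x)
  exact ⟨F₀, isRealizable_of_isRealizedBy h3 h4, saturated_of_isRealizedBy h3 h4, fun P f g hg =>
    IsRealizedBy_isMap h3 le_top (fun _ _ => trivial) g fun z hz => by rw [e, e, hg z hz]⟩

/-- `U4F.exists_mod (Θ := ⊥)`, `model`; `ϑ = 1` in `K4` (`σϑ`, `σ_eq`, cases), `g2_one`, so `ωQ = ω0`; `ρ_ψ`. -/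
theorem model1 : ∃ F₀ : FusionSystem (⊤ : Subgroup S), F₀.IsRealizable 2 ∧ F₀.IsSaturated 2 ∧
    U4F.ω0 K4 ∈ F₀.autGroup Qs ∧ ∃ α ∈ F₀.autGroup As, cJ.ρ α = 18481 := by
  obtain ⟨G, _, _, ι, hι, hi, ⟨w, hw⟩, ⟨n, hn⟩, -, -⟩ := U4F.exists_mod (K := K4) (Θ := ⊥) (p := 2) bot_le (by simp)
  obtain ⟨F₀, h1, h2, k⟩ := model ι hι hi
  have t : (U4F.ϑ : K4ˣ) = 1 := Units.ext
    ((by decide : ∀ x : K4, x ≠ 0 → L4S.F.fr x = -x → x = 1) _ (Units.ne_zero _) (σ_eq _ ▸ U4F.σϑ))
  have e : U4F.ωQ K4 = U4F.ω0 K4 := by rw [U4F.ωQ, t, U4F.g2_one, map_one, mul_one]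
  exact ⟨F₀, h1, h2, e ▸ mem_autGroup_of_isMap (k _ _ w hw) fun _ _ => rfl, _,
    mem_autGroup_of_isMap (k _ _ n hn) fun _ => U4F.afn_ψA, ρ_ψ⟩

/-- The matrix with code `M`. -/
def toMat (M : ℕ) : Matrix (Fin 4) (Fin 4) (ZMod 2) := Matrix.of fun i j => ((M / 2 ^ (4 * j.1 + i.1) : ℕ) : ZMod 2)

/-- The code of the matrix of the element with code `n`. -/
def io (n : ℕ) : ℕ := (nat_lit 0xc621c631a631a621c721c731b731b721f721f73187318721f621f63196319621e421e431a431a421e521e531b531b521d521d53185318521d421d43194319421d621d631b631b621d721d731a731a721e721e73197319721e621e63186318621f421f431b431b421f521f531a531a521c521c53195319521c421c43184318421) / 2 ^ (16 * n) % 65536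

theorem cast_xor (a b i : ℕ) :
    (((a ^^^ b) / 2 ^ i : ℕ) : ZMod 2) = ((a / 2 ^ i : ℕ) : ZMod 2) + ((b / 2 ^ i : ℕ) : ZMod 2) := by
  rw [Nat.xor_div_two_pow, ← Nat.cast_add, ZMod.natCast_eq_natCast_iff', Nat.xor_mod_two_eq]

theorem cast_bit (v c : ℕ) {i : ℕ} (hi : i < 4) :
    ((v % 2 * (c % 16) / 2 ^ i : ℕ) : ZMod 2) = ((c / 2 ^ i : ℕ) : ZMod 2) * (v : ZMod 2) := by
  rw [← Nat.cast_mul, ZMod.natCast_eq_natCast_iff', Nat.mul_mod (c / 2 ^ i)]
  rcases Nat.mod_two_eq_zero_or_one v with h | h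
  · simp [h]
  · rw [h, one_mul, mul_one]
    interval_cases i <;> omega

theorem app_lt16 (M v : ℕ) : app M v < 16 := by
  have k : ∀ a c : ℕ, a % 2 * (c % 16) < 2 ^ 4 := fun a c => by
    rcases Nat.mod_two_eq_zero_or_one a with h | h <;> rw [h] <;> omega
  exact Nat.xor_lt_two_pow (n := 4) (Nat.xor_lt_two_pow (k ..) (k ..)) (Nat.xor_lt_two_pow (k ..) (k ..))

theorem cast_app (M v : ℕ) (i : Fin 4) :
    ((app M v / 2 ^ i.1 : ℕ) : ZMod 2) = ∑ k : Fin 4, toMat M i k * ((v / 2 ^ k.1 : ℕ) : ZMod 2) := by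
  rw [app_def, cast_xor, cast_xor, cast_xor, cast_bit _ _ i.2, cast_bit _ _ i.2, cast_bit _ _ i.2, cast_bit _ _ i.2,
    Fin.sum_univ_four]
  simp [toMat, Nat.div_div_eq_div_mul, pow_add, add_assoc]

theorem toMat_mm (M N : ℕ) : toMat (mm M N) = toMat M * toMat N := by
  ext i j
  have e : toMat (mm M N) i j = ((app M (N / 16 ^ j.1) / 2 ^ i.1 : ℕ) : ZMod 2) := by
    have := app_lt16 M N
    have := app_lt16 M (N / 16)
    have := app_lt16 M (N / 256)
    have := app_lt16 M (N / 4096)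
    rw [mm_def, mk4_def, toMat, Matrix.of_apply, ZMod.natCast_eq_natCast_iff']
    fin_cases i <;> fin_cases j <;> simp only [Nat.reducePow, Nat.reduceMul, Nat.reduceAdd, Nat.div_one] <;> omega
  rw [Matrix.mul_apply, e, cast_app]
  refine Finset.sum_congr rfl fun k _ => ?_
  simp only [toMat, Matrix.of_apply, Nat.div_div_eq_div_mul, pow_add, pow_mul, Nat.reducePow]

theorem toMat_I4 : toMat I4 = 1 := by decide +kernel

theorem io_m : ∀ a < 64, ∀ b < 64, io (m a b) = mm (io a) (io b) := by decide +kernel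

/-- The representation of `S`. -/
def ιM : S →* Matrix (Fin 4) (Fin 4) (ZMod 2) where
  toFun g := toMat (io (cd g))
  map_one' := toMat_I4
  map_mul' g h := by rw [cd_mul, io_m _ (cd_lt g) _ (cd_lt h), toMat_mm]

/-- The representation of `S`. -/
def ιG : S →* GL (Fin 4) (ZMod 2) := ιM.toHomUnits

theorem ιG_inj : Function.Injective ιG := (injective_iff_map_eq_one _).2 fun g h =>
  (by decide +kernel : ∀ g : S, toMat (io (cd g)) = 1 → g = 1) g (congrArg Units.val h)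

theorem ιG_index : ¬ 2 ∣ ιG.range.index := by
  have h := ιG.range.card_mul_index
  have c : Nat.card (GL (Fin 4) (ZMod 2)) = 20160 := by rw [Matrix.card_GL_field]; simp [Fin.prod_univ_succ]
  rw [c, ← Nat.card_congr (MonoidHom.ofInjective ιG_inj).toEquiv, U4F.card_U, show Cj.q K4 = 2 from rfl] at h
  omega

theorem ιG_conj {M : ℕ} (hM : mm M M = I4) {P : Subgroup S} {f : S → S}
    (h : ∀ u ∈ P, mm M (io (cd u)) = mm (io (cd (f u))) M) : ∃ g, ∀ u ∈ P, g * ιG u * g⁻¹ = ιG (f u) := by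
  have e : toMat M * toMat M = 1 := by rw [← toMat_mm, hM, toMat_I4]
  refine ⟨⟨toMat M, toMat M, e, e⟩, fun u hu => mul_inv_eq_iff_eq_mul.2 (Units.ext ?_)⟩
  show toMat M * toMat (io (cd u)) = toMat (io (cd (f u))) * toMat M
  rw [← toMat_mm, ← toMat_mm, h u hu]

/-- `G = GL (Fin 4) (ZMod 2)`, `Nat.card G = 20160` by `rw [Matrix.card_GL_field]; simp [Fin.prod_univ_succ]`, `Nat.card S = 64`
(`U4F.card_U`), so the index is 315.  `ι = (MonoidHom.mk' / MonoidHom.mk (fun g => toMat (io (cd g))) ..).toHomUnits`.  Checked in python: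
`io (m a b) = mm (io a) (io b)`, `io` injective on `range 64`, `w = 58193`, `n = 18450` are involutions with
`mm w (io (cd u)) = mm (io (cd (ω u))) w` for `u ∈ Qs` and `mm n (io (4 v)) = mm (io (4 * app 18479 v)) n` for `v < 16`
(`f u = el (4 * app 18479 (cd u / 4))`; `IsMap.exists_aut'`, `cJ.ρ_eq`, decide).  Either prove `toMat (mm M N) = toMat M * toMat N` or
check the matrix identities directly by `decide +kernel` (multiplicativity only for right factors `el 1, el 2, el 16`, which generate). -/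
theorem model2 : ∃ F₀ : FusionSystem (⊤ : Subgroup S), F₀.IsRealizable 2 ∧ F₀.IsSaturated 2 ∧
    U4F.ω0 K4 ∈ F₀.autGroup Qs ∧ ∃ α ∈ F₀.autGroup As, cJ.ρ α = 18479 := by
  obtain ⟨F₀, h1, h2, k⟩ := model ιG ιG_inj ιG_index
  obtain ⟨w, hw⟩ := ιG_conj (M := 58193) (by decide +kernel) (P := Qs) (f := U4F.ω) (by decide +kernel)
  obtain ⟨n, hn⟩ := ιG_conj (M := 18450) (by decide +kernel) (P := As) (f := fun u => el (4 * app 18479 (cd u / 4)))
    (by decide +kernel)
  obtain ⟨α, hα, e⟩ := (k _ _ n hn).exists_aut' (by decide +kernel)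
  exact ⟨F₀, h1, h2, mem_autGroup_of_isMap (k _ _ w hw) fun _ => U4F.afn_ω0, α, hα, (cJ.ρ_eq e).trans (by decide +kernel)⟩

/-- `FiniteField.ringEquivOfCardEq : K ≃+* K4` (`U4F.card_K`; `Fintype.ofFinite`), `e (σ x) = σ (e x)` as `σ x = x ^ Cj.q K` on both sides
(see `U5F/U`); apply `e` to the four coordinates. -/
theorem exists_iso {K : Type*} [Field K] [Cj K] (hq : Cj.q K = 2) : Nonempty (U4F.U K ≃* S) := by
  have := Fintype.ofFinite K
  have e : K ≃+* K4 := FiniteField.ringEquivOfCardEq (by rw [← Nat.card_eq_fintype_card, U4F.card_K, hq]; rfl)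
  have h : ∀ x, σ (e x) = e (σ x) := fun x => by
    show e x ^ 2 = e (x ^ Cj.q K)
    rw [hq, map_pow]
  have h' : ∀ x, σ (e.symm x) = e.symm (σ x) := fun x => e.injective (by rw [← h, e.apply_symm_apply, e.apply_symm_apply])
  exact ⟨{ toFun := fun g => ⟨e g.y, e g.b, e g.w, e g.c, by rw [h, g.hb, map_neg], by rw [h, g.hc, map_neg]⟩
           invFun := fun g => ⟨e.symm g.y, e.symm g.b, e.symm g.w, e.symm g.c, by rw [h', g.hb, map_neg], by rw [h', g.hc, map_neg]⟩
           left_inv := fun g => by ext <;> exact e.symm_apply_apply _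
           right_inv := fun g => by ext <;> exact e.apply_symm_apply _
           map_mul' := fun g g' => by ext <;> simp only [U4F.UE, map_add, map_sub, map_mul, h] }⟩

end Cfsg.Agent.U4T
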