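import Cfsg.Agent.U4T.Cmb
import Cfsg.Agent.U4T.ExtB
import Cfsg.Agent.U4T.Mod2

/-! Saturated fusion systems with trivial core on the Sylow `2`-subgroup of `SU₄(2)` are realizable (S5210, `q = 2`). -/

set_option autoImplicit false

namespace Cfsg.Agent.U4T

open Subgroup Cfsg.Agent.RFS Cfsg.Agent.Fus Cfsg.FusionSystem Cfsg.Agent.SpF Cfsg.Agent.U5F

variable {F : FusionSystem (⊤ : Subgroup S)}

theorem push {u : ℕ} (h : ∀ F : FusionSystem (⊤ : Subgroup S), F.IsSaturated 2 → F.core = ⊥ →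
    ∀ α ∈ F.autGroup As, cJ.ρ α = u → F.IsRealizable 2) (hF : F.IsSaturated 2) (hc : F.core = ⊥)
    (hu : Cv (F.autGroup As) u) : F.IsRealizable 2 := by
  obtain ⟨α, hα, γ, hγ⟩ := hu
  obtain ⟨F₁, e⟩ := exists_push' (F' := F) γ
  refine isRealizable_of_push e (h F₁ (e.saturated hF) (by_contra fun c => core_ne_of_push e.symm c hc) _ ?_ hγ)
  have := e.isMap ((mem_autGroup le_top).1 hα) (f' := afn (rA γ * α * (rA γ)⁻¹)) fun x hx => by
    rw [← afn_res (E := As) γ hx, ← afn_mul _ _ hx, inv_mul_cancel_right, afn_mul _ _ hx, afn_res γ (afn_mem α hx)]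
  rw [imX_chr γ As] at this
  exact (mem_autGroup le_top).2 this

theorem real13 (hF : F.IsSaturated 2) (hc : F.core = ⊥) (h : Cv (F.autGroup As) 18481 ∨ Cv (F.autGroup As) 18479) :
    F.IsRealizable 2 := by
  have k : ∀ u, u = 18481 ∨ u = 18479 → (∃ F₀ : FusionSystem (⊤ : Subgroup S), F₀.IsRealizable 2 ∧ F₀.IsSaturated 2 ∧
      U4F.ω0 K4 ∈ F₀.autGroup Qs ∧ ∃ α ∈ F₀.autGroup As, cJ.ρ α = u) → Cv (F.autGroup As) u → F.IsRealizable 2 := by
    rintro u hu ⟨F₀, h1, h2, hω, β, hβ, e'⟩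
    refine push (fun F hF hc α hα e => ?_) hF hc
    obtain rfl : α = β := ρJ_inj (e.trans e'.symm)
    rwa [fs_le_antisymm (le_of hF h2 (c1 (sylA hF) hα (e ▸ hu) (sylA h2).1 hβ) hω)
      (le_of h2 hF (c1 (sylA h2) hβ (e ▸ hu) (sylA hF).1 hα) (ω_mem (sa_AS pT hF) (lc_AS pT hF (essQ hF hc))))]
  exact h.elim (k _ (.inl rfl) model1) (k _ (.inr rfl) model2)

theorem real4 (hF : F.IsSaturated 2) (hc : F.core = ⊥) : F.IsRealizable 2 := by
  obtain h | h | h := c0 (sylA hF)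
  · exact real13 hF hc h
  · exact push (fun F hF hc α hα e => real13 hF hc ((c2 (sylA hF) hα e).resolve_right (not_cen hF hc))) hF hc h
  · exact absurd h (not_fix hF hc)

theorem real_two {K : Type*} [Field K] [U5F.Cj K] [CharP K 2] (hq : U5F.Cj.q K = 2)
    {F : FusionSystem (⊤ : Subgroup (U4F.U K))} (hF : F.IsSaturated 2) (hc : F.core = ⊥) : F.IsRealizable 2 := by
  obtain ⟨γ⟩ := exists_iso hq
  obtain ⟨F₁, e⟩ := exists_push' (F' := F) γ
  exact isRealizable_of_push e (real4 (e.saturated hF) (by_contra fun c => core_ne_of_push e.symm c hc))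

end Cfsg.Agent.U4T
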