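import Cfsg.Agent.U4F.Def
import Cfsg.Agent.L4S.Defs
import Cfsg.Agent.Comp.Basic

/-!
The Sylow 2-subgroup `S = U K4` of `SU₄(2)` over the explicit field `K4`; codes `cd g < 64`, `el n`, the multiplication table `m`.
Bit matrices: `M < 65536` has the columns `M % 16, M / 16 % 16, ..`; `app M v` is `M v`, `mm` is the product, `I4` the identity.
`Co P`: coordinates on an elementary abelian quotient of order 16 of `P`; `c.ρ f` is the matrix of `f`.
-/

set_option autoImplicit false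
set_option linter.unusedSimpArgs false
set_option maxRecDepth 100000

namespace Cfsg.Agent.U4T

open Subgroup Cfsg.Agent.RFS Cfsg.Agent.Fus Cfsg.Agent.U5F Cfsg.Agent.Comp

/-- The field with four elements. -/
abbrev K4 := L4S.F

instance : Cj K4 := ⟨2, ⟨inferInstance, by rw [Nat.card_eq_fintype_card]; rfl⟩⟩

instance : CharP K4 2 := CharTwo.of_one_ne_zero_of_two_eq_zero one_ne_zero L4S.F.two

theorem σ_eq (x : K4) : σ x = L4S.F.fr x := by cases x <;> rfl

/-- The group. -/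
abbrev S := U4F.U K4

/-- `2⁴`. -/
abbrev As : Subgroup S := U4F.As
/-- `2^{1+4}`. -/
abbrev Qs : Subgroup S := U4F.Qs
/-- The centre. -/
abbrev Z1 : Subgroup S := U4F.Z1
/-- `A ⟨Xy y⟩`. -/
abbrev Ey (y : K4) : Subgroup S := U4F.Ey y
/-- Restriction to `Q`. -/
abbrev rQ : MulAut S →* MulAut Qs := U4F.rQ
/-- Restriction to `A`. -/
abbrev rA : MulAut S →* MulAut As := U4F.rA
/-- Conjugation on `Q`. -/
abbrev cQ (g : S) : MulAut Qs := rQ (MulAut.conj g)
/-- Conjugation on `A`. -/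
abbrev cA (g : S) : MulAut As := rA (MulAut.conj g)

/-- Decoding. -/
def f4 (n : ℕ) : K4 := match n % 4 with
  | 0 => .o | 1 => .i | 2 => .w | _ => .v

/-- Decoding. -/
def bt (n : ℕ) : K4 := match n % 2 with
  | 0 => .o | _ => .i

/-- Coding. -/
def c4 : K4 → ℕ
  | .o => 0 | .i => 1 | .w => 2 | .v => 3

theorem σbt (n : ℕ) : σ (bt n) = -bt n := by unfold bt; split <;> rfl

/-- Decoding. -/
def el (n : ℕ) : S := ⟨f4 n, bt (n / 16), f4 (n / 4), bt (n / 32), σbt _, σbt _⟩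

/-- Coding: `y + 4 w + 16 b + 32 c`. -/
def cd (g : S) : ℕ := c4 g.y + 4 * c4 g.w + 16 * c4 g.b + 32 * c4 g.c

instance : DecidableEq S := fun g h => decidable_of_iff (g.y = h.y ∧ g.b = h.b ∧ g.w = h.w ∧ g.c = h.c)
  ⟨fun e => U4F.U.ext e.1 e.2.1 e.2.2.1 e.2.2.2, fun e => e ▸ ⟨rfl, rfl, rfl, rfl⟩⟩


theorem cd_spec (g : S) : cd g < 64 ∧ el (cd g) = g := by
  obtain ⟨y, b, x, c, hb, hc⟩ := g
  cases b <;> cases c <;> first | exact absurd hb (by decide) | exact absurd hc (by decide) | skip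
  all_goals cases y <;> cases x <;> exact ⟨by simp [cd, c4], U4F.U.ext (by decide +kernel +revert) (by decide +kernel +revert) (by decide +kernel +revert) (by decide +kernel +revert)⟩

theorem cd_lt (g : S) : cd g < 64 := (cd_spec g).1
theorem el_cd (g : S) : el (cd g) = g := (cd_spec g).2
theorem cd_el : ∀ n < 64, cd (el n) = n := by decide +kernel
theorem cd_inj {g h : S} : cd g = cd h ↔ g = h := ⟨fun e => by rw [← el_cd g, e, el_cd], congrArg cd⟩

theorem all_el {p : S → Prop} (h : ∀ n < 64, p (el n)) (g : S) : p g := el_cd g ▸ h _ (cd_lt g)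

instance decAll (p : S → Prop) [DecidablePred p] : Decidable (∀ g, p g) :=
  decidable_of_iff (∀ n < 64, p (el n)) ⟨all_el, fun h _ _ => h _⟩

instance decEx (p : S → Prop) [DecidablePred p] : Decidable (∃ g, p g) :=
  decidable_of_iff (∃ n < 64, p (el n)) ⟨fun ⟨_, _, h⟩ => ⟨_, h⟩, fun ⟨g, h⟩ => ⟨cd g, cd_lt g, by rwa [el_cd]⟩⟩

instance (g : S) : Decidable (g ∈ As) := decidable_of_iff _ U4F.mem_As.symm
instance (g : S) : Decidable (g ∈ Qs) := decidable_of_iff _ U4F.mem_Qs.symm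
instance (g : S) : Decidable (g ∈ Z1) := decidable_of_iff _ U4F.mem_Z1.symm
instance (y : K4) (g : S) : Decidable (g ∈ Ey y) := decidable_of_iff _ U4F.mem_Ey.symm

/-- The multiplication table. -/
def TAB : ℕ := nat_lit 0xb2dbaf20928b1051878218a3411493d35db7e39ebb71d79f30d38fa29aab9259a7001083c31cb351559761969bf3dfbf2482cab6cbee0400c29649e6c70cf25545d6e78efa75c7dea68aea34c3ce8608e21441c64504d2d74df66586daf7cffe187105083001bafb2daaba29cb3c31db7d3569b61979f71d9a79258a382138f30d28b209493411597515ebbe39fbff3d0c20401c61442ca2483ce34c4d24505d65546da6587de75c8e28609e6964aeaa68beeb6ccf2c70df6d74efae78ffef7ca29aab30d38f0010839259a7515597c31cb3f3dfbf61969b20928bb2dbaf8218a3105187d35db741149371d79fe39ebb34c3cea68aea1441c68608e2d74df64504d2f7cffe6586dab6cbee2482ca9649e60400c25545d6c70cf275c7dee78efa083001187105aaba29bafb2ddb7d35cb3c3179f71d69b6198a38219a792528b20938f30d597515493411fbff3debbe391c61440c20403ce34c2ca2485d65544d24507de75c6da6589e69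648e2860beeb6caeaa68df6d74cf2c70ffef7cefae789259a700108330d38fa29aab61969bf3dfbfc31cb35155971051878218a3b2dbaf20928be39ebb71d79f411493d35db70400c29649e62482cab6cbeee78efa75c7dec70cf25545d68608e21441c6a68aea34c3ce6586daf7cffe4504d2d74df638f30d28b2099a79258a3821ebbe39fbff3d493411597515bafb2daaba2918710508300169b61979f71dcb3c31db7d352ca2483ce34c0c20401c61446da6587de75c4d24505d6554aeaa68beeb6c8e28609e6964efae78ffef7ccf2c70df6d748218a310518720928bb2dbaf71d79fe39ebbd35db74114930010839259a7a29aab30d38ff3dfbf61969b515597c31cb31441c68608e234c3cea68aeaf7cffe6586dad74df64504d29649e60400c2b6cbee2482ca75c7dee78efa5545d6c70cf228b20938f30d8a38219a7925fbff3debbe39597515493411aaba29bafb2d08300118710579f71d69b619db7d35cb3c313ce34c2ca2481c61440c20407de75c6da6585d65544d2450beeb6caeaa689e69648e2860ffef7cefae78df6d74cf2c70f3dfbf61969b515597c31cb30010839259a7a29aab30d38f71d79fe39ebbd35db74114938218a310518720928bb2dbaf6586daf7cffe4504d2d74df68608e21441c6a68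aea34c3cee78efa75c7dec70cf25545d60400c29649e62482cab6cbee597515493411fbff3debbe398a38219a792528b20938f30ddb7d35cb3c3179f71d69b619083001187105aaba29bafb2d4d24505d65546da6587de75c0c20401c61442ca2483ce34ccf2c70df6d74efae78ffef7c8e28609e6964aeaa68beeb6ce39ebb71d79f411493d35db71051878218a3b2dbaf20928b61969bf3dfbfc31cb35155979259a700108330d38fa29aab75c7dee78efa5545d6c70cf29649e60400c2b6cbee2482caf7cffe6586dad74df64504d21441c68608e234c3cea68aea493411597515ebbe39fbff3d9a79258a382138f30d28b209cb3c31db7d3569b61979f71d187105083001bafb2daaba295d65544d24507de75c6da6581c61440c20403ce34c2ca248df6d74cf2c70ffef7cefae789e69648e2860beeb6caeaa68d35db741149371d79fe39ebb20928bb2dbaf8218a3105187515597c31cb3f3dfbf61969ba29aab30d38f0010839259a74504d2d74df66586daf7cffea68aea34c3ce8608e21441c6c70cf25545d6e78efa75c7de2482cab6cbee0400c29649e679f71d69b619db7d35cb3c31aaba29bafb2d083001187105fbff3debbe3959751549341128b20938f30d8a38219a79256da6587de75c4d24505d65542c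a2483ce34c0c20401c6144efae78ffef7ccf2c70df6d74aeaa68beeb6c8e28609e6964c31cb351559761969bf3dfbf30d38fa29aab9259a7001083411493d35db7e39ebb71d79fb2dbaf20928b1051878218a35545d6c70cf275c7dee78efab6cbee2482ca9649e60400c2d74df64504d2f7cffe6586da34c3cea68aea1441c68608e269b61979f71dcb3c31db7d35bafb2daaba29187105083001ebbe39fbff3d49341159751538f30d28b2099a79258a38217de75c6da6585d65544d24503ce34c2ca2481c61440c2040ffef7cefae78df6d74cf2c70beeb6caeaa689e69648e286030d38fa29aab9259a7001083c31cb351559761969bf3dfbfb2dbaf20928b1051878218a3411493d35db7e39ebb71d79fa68aea34c3ce8608e21441c64504d2d74df66586daf7cffe2482cab6cbee0400c29649e6c70cf25545d6e78efa75c7de9a79258a382138f30d28b209493411597515ebbe39fbff3d187105083001bafb2daaba29cb3c31db7d3569b61979f71d8e28609e6964aeaa68beeb6ccf2c70df6d74efae78ffef7c0c20401c61442ca2483ce34c4d24505d65546da6587de75c20928bb2dbaf8218a3105187d35db741149371d79fe39ebba29aab30d38f0010839259a7515597c31cb3f3dfbf61969bb6cbee2482ca9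649e60400c25545d6c70cf275c7dee78efa34c3cea68aea1441c68608e2d74df64504d2f7cffe6586da8a38219a792528b20938f30d597515493411fbff3debbe39083001187105aaba29bafb2ddb7d35cb3c3179f71d69b6199e69648e2860beeb6caeaa68df6d74cf2c70ffef7cefae781c61440c20403ce34c2ca2485d65544d24507de75c6da6581051878218a3b2dbaf20928be39ebb71d79f411493d35db79259a700108330d38fa29aab61969bf3dfbfc31cb35155978608e21441c6a68aea34c3ce6586daf7cffe4504d2d74df60400c29649e62482cab6cbeee78efa75c7dec70cf25545d6bafb2daaba2918710508300169b61979f71dcb3c31db7d3538f30d28b2099a79258a3821ebbe39fbff3d493411597515aeaa68beeb6c8e28609e6964efae78ffef7ccf2c70df6d742ca2483ce34c0c20401c61446da6587de75c4d24505d65540010839259a7a29aab30d38ff3dfbf61969b515597c31cb38218a310518720928bb2dbaf71d79fe39ebbd35db74114939649e60400c2b6cbee2482ca75c7dee78efa5545d6c70cf21441c68608e234c3cea68aeaf7cffe6586dad74df64504d2aaba29bafb2d08300118710579f71d69b619db7d35cb3c3128b20938f30d8a38219a7925fbff3debbe39597515493411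beeb6caeaa689e69648e2860ffef7cefae78df6d74cf2c703ce34c2ca2481c61440c20407de75c6da6585d65544d245071d79fe39ebbd35db74114938218a310518720928bb2dbaff3dfbf61969b515597c31cb30010839259a7a29aab30d38fe78efa75c7dec70cf25545d60400c29649e62482cab6cbee6586daf7cffe4504d2d74df68608e21441c6a68aea34c3cedb7d35cb3c3179f71d69b619083001187105aaba29bafb2d597515493411fbff3debbe398a38219a792528b20938f30dcf2c70df6d74efae78ffef7c8e28609e6964aeaa68beeb6c4d24505d65546da6587de75c0c20401c61442ca2483ce34c61969bf3dfbfc31cb35155979259a700108330d38fa29aabe39ebb71d79f411493d35db71051878218a3b2dbaf20928bf7cffe6586dad74df64504d21441c68608e234c3cea68aea75c7dee78efa5545d6c70cf29649e60400c2b6cbee2482cacb3c31db7d3569b61979f71d187105083001bafb2daaba29493411597515ebbe39fbff3d9a79258a382138f30d28b209df6d74cf2c70ffef7cefae789e69648e2860beeb6caeaa685d65544d24507de75c6da6581c61440c20403ce34c2ca248515597c31cb3f3dfbf61969ba29aab30d38f0010839259a7d35db741149371d79fe39ebb20928bb2dba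f8218a3105187c70cf25545d6e78efa75c7de2482cab6cbee0400c29649e64504d2d74df66586daf7cffea68aea34c3ce8608e21441c6fbff3debbe3959751549341128b20938f30d8a38219a792579f71d69b619db7d35cb3c31aaba29bafb2d083001187105efae78ffef7ccf2c70df6d74aeaa68beeb6c8e28609e69646da6587de75c4d24505d65542ca2483ce34c0c20401c6144411493d35db7e39ebb71d79fb2dbaf20928b1051878218a3c31cb351559761969bf3dfbf30d38fa29aab9259a7001083d74df64504d2f7cffe6586da34c3cea68aea1441c68608e25545d6c70cf275c7dee78efab6cbee2482ca9649e60400c2ebbe39fbff3d49341159751538f30d28b2099a79258a382169b61979f71dcb3c31db7d35bafb2daaba29187105083001ffef7cefae78df6d74cf2c70beeb6caeaa689e69648e28607de75c6da6585d65544d24503ce34c2ca2481c61440c2040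

/-- The product of codes. -/
def m (a b : ℕ) : ℕ := Nat.land (Nat.shiftRight TAB (Nat.mul 6 (Nat.add (Nat.mul 64 a) b))) 63

/-- The inverse of a code. -/
def iv (a : ℕ) : ℕ := Nat.land (Nat.shiftRight (nat_lit 0x4f6e7cdd2f78efe4747da570bce36c2ea2681c69648e2860cd665c5f27586dec54ffad503eeb4cacaa489e61440c2040) (Nat.mul 6 a)) 63

theorem cd_mul : ∀ g h : S, cd (g * h) = m (cd g) (cd h) := by decide +kernel
theorem cd_inv : ∀ g : S, cd g⁻¹ = iv (cd g) := by decide +kernel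
theorem cd_one : cd 1 = 0 := rfl
theorem As_cd : ∀ g : S, g ∈ As ↔ cd g % 4 = 0 := by decide +kernel
theorem Qs_cd : ∀ g : S, g ∈ Qs ↔ cd g / 16 % 2 = 0 := by decide +kernel
theorem Z1_cd : ∀ g : S, g ∈ Z1 ↔ cd g % 32 = 0 := by decide +kernel

/-- `M v`. -/
def app (M v : ℕ) : ℕ :=
  Nat.xor (Nat.xor (Nat.mul (Nat.mod v (nat_lit 2)) (Nat.mod M (nat_lit 16)))
      (Nat.mul (Nat.mod (Nat.div v (nat_lit 2)) (nat_lit 2)) (Nat.mod (Nat.div M (nat_lit 16)) (nat_lit 16))))
    (Nat.xor (Nat.mul (Nat.mod (Nat.div v (nat_lit 4)) (nat_lit 2)) (Nat.mod (Nat.div M (nat_lit 256)) (nat_lit 16)))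
      (Nat.mul (Nat.mod (Nat.div v (nat_lit 8)) (nat_lit 2)) (Nat.mod (Nat.div M (nat_lit 4096)) (nat_lit 16))))

/-- The matrix with given columns. -/
def mk4 (a b c d : ℕ) : ℕ :=
  Nat.add (Nat.add a (Nat.mul (nat_lit 16) b)) (Nat.add (Nat.mul (nat_lit 256) c) (Nat.mul (nat_lit 4096) d))

/-- The product. -/
noncomputable def mm (M N : ℕ) : ℕ := force M fun M => force N fun N =>
  mk4 (app M N) (app M (Nat.div N (nat_lit 16))) (app M (Nat.div N (nat_lit 256))) (app M (Nat.div N (nat_lit 4096)))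

/-- The identity. -/
def I4 : ℕ := nat_lit 33825

/-- The value of the word `w` in the letters `l`. -/
noncomputable def ev (l w : List ℕ) : ℕ := List.rec (motive := fun _ => ℕ) I4 (fun i _ r => mm (l.getD i I4) r) w

theorem app_def (M v : ℕ) : app M v = (v % 2 * (M % 16) ^^^ v / 2 % 2 * (M / 16 % 16)) ^^^
    (v / 4 % 2 * (M / 256 % 16) ^^^ v / 8 % 2 * (M / 4096 % 16)) := rfl

theorem mk4_def (a b c d : ℕ) : mk4 a b c d = a + 16 * b + (256 * c + 4096 * d) := rfl

theorem mm_def (M N : ℕ) : mm M N = mk4 (app M N) (app M (N / 16)) (app M (N / 256)) (app M (N / 4096)) := by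
  simp only [mm, force_eq]
  rfl

theorem app_congr (M : ℕ) {u v : ℕ} (h : u % 16 = v % 16) : app M u = app M v := by
  rw [app_def, app_def, show u % 2 = v % 2 by omega, show u / 2 % 2 = v / 2 % 2 by omega,
    show u / 4 % 2 = v / 4 % 2 by omega, show u / 8 % 2 = v / 8 % 2 by omega]

/-- A predicate closed under products holds for all words. -/
theorem ev_mem {P : ℕ → Prop} (h1 : P I4) (hm : ∀ M N, P M → P N → P (mm M N)) {l : List ℕ} (hl : ∀ M ∈ l, P M)
    (w : List ℕ) : P (ev l w) := by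
  induction w with
  | nil => exact h1
  | cons i w ih =>
    refine hm _ _ ?_ ih
    rw [List.getD_eq_getElem?_getD]
    cases e : l[i]? with
    | none => exact h1
    | some x => exact hl x (List.mem_of_getElem? e)

theorem lin {φ : ℕ → ℕ} (hl : ∀ v, φ v < 16) (h : ∀ u < 16, ∀ v < 16, φ (u ^^^ v) = φ u ^^^ φ v) {v : ℕ} (hv : v < 16) :
    φ v = app (mk4 (φ 1) (φ 2) (φ 4) (φ 8)) v := by
  have h0 : φ 0 = 0 := by simpa using h 0 (by omega) 0 (by omega)
  have k : ∀ a < 2, ∀ x, φ (a * x) = a * φ x := fun a ha x => by interval_cases a <;> simp [h0]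
  have := hl 1; have := hl 2; have := hl 4; have := hl 8
  have e : ∀ v < 16, v = (v % 2 * 1 ^^^ v / 2 % 2 * 2) ^^^ (v / 4 % 2 * 4 ^^^ v / 8 % 2 * 8) ∧
    (v % 2 * 1 ^^^ v / 2 % 2 * 2) < 16 ∧ (v / 4 % 2 * 4 ^^^ v / 8 % 2 * 8) < 16 := by decide
  rw [app_def, mk4_def, show (φ 1 + 16 * φ 2 + (256 * φ 4 + 4096 * φ 8)) % 16 = φ 1 by omega,
    show (φ 1 + 16 * φ 2 + (256 * φ 4 + 4096 * φ 8)) / 16 % 16 = φ 2 by omega,
    show (φ 1 + 16 * φ 2 + (256 * φ 4 + 4096 * φ 8)) / 256 % 16 = φ 4 by omega,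
    show (φ 1 + 16 * φ 2 + (256 * φ 4 + 4096 * φ 8)) / 4096 % 16 = φ 8 by omega,
    ← k _ (by omega), ← k _ (by omega), ← k _ (by omega), ← k _ (by omega), ← h _ (by omega) _ (by omega),
    ← h _ (by omega) _ (by omega), ← h _ (e v hv).2.1 _ (e v hv).2.2, ← (e v hv).1]

/-- Coordinates. -/
structure Co (P : Subgroup S) where
  jv : S → ℕ
  e : ℕ → S
  lt : ∀ g, jv g < 16
  mem : ∀ v, e v ∈ P
  add : ∀ g ∈ P, ∀ h ∈ P, jv (g * h) = jv g ^^^ jv h
  jv_e : ∀ v < 16, jv (e v) = v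
  ker : ∀ α : MulAut P, ∀ g ∈ P, jv g = 0 → jv (afn α g) = 0

namespace Co

variable {P : Subgroup S} (c : Co P)

/-- The matrix of a function; `c.mx f = _` is proved by `decide +kernel` for explicit `f`. -/
def mx (f : S → S) : ℕ := mk4 (c.jv (f (c.e 1))) (c.jv (f (c.e 2))) (c.jv (f (c.e 4))) (c.jv (f (c.e 8)))

/-- The matrix of an automorphism. -/
noncomputable def ρ (α : MulAut P) : ℕ := c.mx (afn α)

theorem ρ_eq {α : MulAut P} {f : S → S} (h : ∀ x ∈ P, afn α x = f x) : c.ρ α = c.mx f := by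
  simp only [ρ, mx, h _ (c.mem _)]

theorem cong (α : MulAut P) {g h : S} (hg : g ∈ P) (hh : h ∈ P) (e : c.jv g = c.jv h) : c.jv (afn α g) = c.jv (afn α h) := by
  have i : ∀ g ∈ P, c.jv g⁻¹ = c.jv g := fun g hg => by
    have := c.add _ (inv_mem hg) _ hg
    have o := c.add 1 (one_mem _) 1 (one_mem _)
    rw [mul_one, Nat.xor_self] at o
    rw [inv_mul_cancel, o] at this
    exact Nat.xor_eq_zero_iff.1 this.symm
  have := c.ker α _ (mul_mem (inv_mem hg) hh) (by rw [c.add _ (inv_mem hg) _ hh, i g hg, e, Nat.xor_self])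
  rw [afn_dv α hg hh, c.add _ (inv_mem (afn_mem α hg)) _ (afn_mem α hh), i _ (afn_mem α hg)] at this
  exact Nat.xor_eq_zero_iff.1 this

theorem jv_afn (α : MulAut P) {g : S} (hg : g ∈ P) : c.jv (afn α g) = app (c.ρ α) (c.jv g) := by
  rw [c.cong α hg (c.mem (c.jv g)) (c.jv_e _ (c.lt g)).symm]
  refine lin (φ := fun v => c.jv (afn α (c.e v))) (fun _ => c.lt _) (fun u hu v hv => ?_) (c.lt g)
  rw [← c.add _ (afn_mem α (c.mem u)) _ (afn_mem α (c.mem v)), ← homOn_afn α _ (c.mem u) _ (c.mem v)]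
  exact c.cong α (c.mem _) (mul_mem (c.mem u) (c.mem v)) (by
    rw [c.jv_e _ (Nat.xor_lt_two_pow (n := 4) hu hv), c.add _ (c.mem u) _ (c.mem v), c.jv_e u hu, c.jv_e v hv])

theorem ρ_lt (α : MulAut P) : c.ρ α < 65536 := by
  have := c.lt (afn α (c.e 1)); have := c.lt (afn α (c.e 2)); have := c.lt (afn α (c.e 4)); have := c.lt (afn α (c.e 8))
  rw [ρ, mx, mk4_def]
  omega

theorem ρ_mul (α β : MulAut P) : c.ρ (α * β) = mm (c.ρ α) (c.ρ β) := by
  have := c.lt (afn β (c.e 1)); have := c.lt (afn β (c.e 2)); have := c.lt (afn β (c.e 4)); have := c.lt (afn β (c.e 8))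
  rw [mm_def, ρ, mx]
  simp only [afn_mul _ _ (c.mem _), c.jv_afn α (afn_mem β (c.mem _))]
  congr 1 <;> exact app_congr _ (by rw [ρ, mx, mk4_def]; omega)

theorem ρ_one : c.ρ 1 = I4 := by
  simp only [ρ, mx, afn_one, c.jv_e 1 (by omega), c.jv_e 2 (by omega), c.jv_e 4 (by omega), c.jv_e 8 (by omega)]
  rfl

/-- Words in matrices of elements of `A`. -/
theorem ev_mem (A : Subgroup (MulAut P)) {l : List ℕ} (hl : ∀ M ∈ l, ∃ α ∈ A, c.ρ α = M) (w : List ℕ) :
    ∃ α ∈ A, c.ρ α = ev l w :=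
  U4T.ev_mem (P := fun M => ∃ α ∈ A, c.ρ α = M) ⟨1, one_mem _, c.ρ_one⟩
    (by rintro _ _ ⟨α, hα, rfl⟩ ⟨β, hβ, rfl⟩; exact ⟨_, mul_mem hα hβ, c.ρ_mul α β⟩) hl w

end Co

theorem As_inj : ∀ g ∈ As, ∀ h ∈ As, cd g / 4 = cd h / 4 → g = h := fun g hg h hh e => by
  have := (As_cd g).1 hg
  have := (As_cd h).1 hh
  exact cd_inj.1 (by omega)

/-- Coordinates `w + 4 b + 8 c` on `A`. -/
def cJ : Co As where
  jv g := cd g / 4
  e v := el (4 * (v % 16))
  lt g := by have := cd_lt g; omega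
  mem v := by rw [As_cd, cd_el _ (by omega)]; omega
  add := by decide +kernel
  jv_e := by decide +kernel
  ker α g hg h := by rw [As_inj g hg 1 (one_mem _) h, (homOn_afn α).map_one]; rfl

/-- Coordinates `y + 4 w` on `Q / Z`. -/
def cq : Co Qs where
  jv g := cd g % 16
  e v := el (v % 16)
  lt g := by omega
  mem v := by rw [Qs_cd, cd_el _ (by omega)]; omega
  add := by decide +kernel
  jv_e := by decide +kernel
  ker α g hg h := by
    have := (Qs_cd g).1 hg
    have := (Z1_cd (afn α g)).1 (U4F.chQ_Z1 α g hg ((Z1_cd g).2 (by omega)))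
    omega

theorem ρJ_inj {α β : MulAut As} (h : cJ.ρ α = cJ.ρ β) : α = β := aut_ext fun _ hx =>
  As_inj _ (afn_mem α hx) _ (afn_mem β hx) ((cJ.jv_afn α hx).trans (h ▸ (cJ.jv_afn β hx).symm))

/-- The matrices of the elements of `Tn As`. -/
def TL : List ℕ := [33825, 36257, 36393, 36777]

theorem ρ_cA (g : S) : cJ.ρ (cA g) = TL.getD (cd g % 4) 0 := by
  rw [cJ.ρ_eq (fun _ => U4F.afn_cA g)]
  revert g
  decide +kernel

theorem mem_TnA {α : MulAut As} : α ∈ Tn As ↔ cJ.ρ α ∈ TL := by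
  refine ⟨?_, fun h => ?_⟩
  · rintro ⟨g, rfl⟩
    have : ∀ n < 4, TL.getD n 0 ∈ TL := by decide
    exact ρ_cA g ▸ this _ (by omega)
  · obtain ⟨g, e⟩ := (by decide +kernel : ∀ M ∈ TL, ∃ g : S, TL.getD (cd g % 4) 0 = M) _ h
    exact ⟨g, ρJ_inj ((ρ_cA g).trans e)⟩

theorem ρ_ψ : cJ.ρ (U4F.ψA K4) = 18481 := by
  rw [cJ.ρ_eq fun _ => U4F.afn_ψA]
  decide +kernel

end Cfsg.Agent.U4T
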