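import Cfsg.Agent.U4T.Bas

/-!
Finite checks on subgroups of `GL₄(2)` with the Sylow 2-subgroup `TL`.  `bad M`: `M` cannot lie in such a subgroup.  `G13`, `G2` are the
possible involutions outside `TL`, conjugate under `N(T)` to `18481`, `18479`, resp. `5224`; these generate with `TL` the groups
`B1 = A₅`, `B2 = S₃ × S₃`, `B3 = S₃ × 2`.
-/

set_option autoImplicit false
set_option maxRecDepth 100000

namespace Cfsg.Agent.U4T

open Cfsg.Agent.Comp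

/-- `∃ x ∈ l, p x`. -/
noncomputable def anyL {α : Type} (l : List α) (p : α → Bool) : Bool :=
  List.rec (motive := fun _ => Bool) false (fun y _ r => or' (p y) r) l

theorem anyL_iff {α : Type} (l : List α) (p : α → Bool) : anyL l p = true ↔ ∃ x ∈ l, p x = true := by
  induction l with
  | nil => simp [anyL]
  | cons y l ih => rw [show anyL (y :: l) p = or' (p y) (anyL l p) from rfl, or'_eq_true, ih]; simp

/-- Membership. -/
noncomputable def mem (x : ℕ) (l : List ℕ) : Bool := force x fun x => anyL l (Nat.beq x)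

theorem mem_iff (x : ℕ) (l : List ℕ) : mem x l = true ↔ x ∈ l := by simp [mem, anyL_iff, Nat.beq_eq]

/-- `M` normalises `T`. -/
noncomputable def nrm (M : ℕ) : Bool :=
  and' (force (mm M 36257) fun x => anyL TL fun s => Nat.beq x (mm s M)) (force (mm M 36393) fun x => anyL TL fun s => Nat.beq x (mm s M))

theorem nrm_iff (M : ℕ) : nrm M = true ↔ (∃ s ∈ TL, mm M 36257 = mm s M) ∧ ∃ s ∈ TL, mm M 36393 = mm s M := by
  simp only [nrm, and'_eq_true, force_eq, anyL_iff, Nat.beq_eq]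

/-- Forbidden elements. -/
noncomputable def bad (M : ℕ) : Bool := force M fun M => force (mm M M) fun N =>
  or' (and' (not' (Nat.beq N I4)) (Nat.beq (mm N N) I4)) (and' (mem N TL) (and' (not' (mem M TL)) (nrm M)))

theorem bad_iff (M : ℕ) : bad M = true ↔
    (mm M M ≠ I4 ∧ mm (mm M M) (mm M M) = I4) ∨ (mm M M ∈ TL ∧ M ∉ TL ∧ nrm M = true) := by
  simp only [bad, or'_eq_true, and'_eq_true, not'_eq_true, force_eq, mem_iff, Nat.beq_eq]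

/-- The letters. -/
def lt (u v : ℕ) : List ℕ := [36257, 36393, 36777, u, v]
/-- Involutions. -/
def G13 : List ℕ := [18450, 18467, 18479, 18481, 18654, 18673, 21066, 21499, 22833, 23009, 24310, 24471, 24980, 25535, 27171, 27181, 27999, 28538, 29140, 29262, 31506, 31725, 32190, 32475, 50194, 50211, 50215, 50225, 50262, 50289, 54321, 54369, 55967, 56190, 56955, 57290, 58403, 58405, 59898, 60375, 60855, 61340, 62482, 62565, 63835, 64182, 64966, 65116]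
/-- Involutions. -/
def G2 : List ℕ := [5224, 5368, 7544, 7656, 9349, 9359, 11911, 11917, 13422, 13525, 16221, 16358, 37441, 37713, 39633, 39873, 41252, 41766, 43310, 43820, 45428, 45639, 47567, 47868]
/-- The generators of `N(T)`. -/
def gN : List ℕ := [36257, 36393, 33842, 33841, 35873]
/-- Words for `N(T)`. -/
def WN : List (List ℕ) := [[2, 3], [2, 2], [], [3, 2], [3], [2], [4, 2, 3, 1], [4, 2, 2, 1], [4, 0], [4, 3, 0, 2], [4, 3, 0], [4, 0, 2], [4, 1], [4, 3, 2, 1], [4, 2, 3, 0], [4, 2, 0, 2], [4, 2, 0], [4, 1, 3], [4, 3, 1], [4, 2, 1], [4, 2, 2, 0], [4, 2, 1, 3], [4, 3, 2, 0], [4, 1, 0], [4, 2, 3], [4, 2, 2], [4], [4, 3, 2], [4, 3], [4, 2], [2, 3, 1], [2, 2, 1], [0], [3, 0, 2], [3, 0], [0, 2], [1], [3, 2, 1], [2, 3, 0], [2, 0, 2], [2, 0], [1, 3], [3, 1], [2, 1], [2, 2, 0], [2, 1, 3], [3, 2, 0], [1, 0]]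
/-- `A₄`. -/
def A4 : List ℕ := [33811, 33825, 33842, 36123, 36257, 36282, 36393, 36507, 36530, 36666, 36755, 36777]
/-- A group. -/
def B1 : List ℕ := [18450, 18467, 18481, 19734, 19815, 19825, 20007, 20050, 20085, 20277, 20310, 20323, 33811, 33825, 33842, 36123, 36257, 36282, 36393, 36507, 36530, 36666, 36755, 36777, 54295, 54369, 54390, 55322, 55467, 55473, 56955, 57020, 57031, 57196, 57254, 57290, 58405, 58455, 58482, 59435, 59538, 59577, 60796, 60855, 60875, 61273, 61340, 61381, 62518, 62547, 62565, 63545, 63642, 63651, 64874, 64940, 64966, 65116, 65173, 65225]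
/-- Words. -/
def W1 : List (List ℕ) := [[1, 0, 3, 1, 3, 1, 0], [1, 3, 1, 0, 3, 1], [3], [1, 0, 3, 1, 3, 0], [1, 3, 1, 0, 3, 0], [3, 0], [1, 3, 1, 0, 3], [1, 0, 3, 1, 3, 1], [3, 1, 0], [3, 1], [1, 0, 3, 1, 3], [1, 3, 1, 0, 3, 1, 0], [1, 3, 1, 0, 3, 1, 3], [], [3, 1, 3, 1, 0, 3, 1], [3, 1, 0, 3, 1, 3, 0], [0], [3, 1, 3, 1, 0, 3, 0], [1], [3, 1, 0, 3, 1, 3], [0, 3, 1, 3, 1, 0, 3], [3, 1, 3, 1, 0, 3], [3, 1, 0, 3, 1, 3, 1], [1, 0], [1, 3, 1, 3, 0], [0, 3, 0], [1, 0, 3, 1, 0, 3, 0], [1, 3, 1, 3, 1, 0], [1, 0, 3, 1, 0, 3, 1], [0, 3], [3, 1, 0, 3, 1, 0, 3], [0, 3, 1], [1, 3, 1, 3], [0, 3, 1, 0], [1, 0, 3, 1, 0, 3], [1, 3, 1, 3, 1], [3, 1, 0, 3], [1, 3, 1, 0], [0, 3, 1, 3, 1], [3, 1, 0, 3, 1], [0, 3, 1, 3, 1, 0], [1, 3], [0, 3, 1, 3], [1, 3, 1], [3, 1, 0, 3, 1, 0], [1, 3, 0], [0, 3, 1, 3, 0], [3, 1, 0, 3, 0], [1, 0, 3, 1], [0, 3, 1, 0, 3, 1, 0], [3, 1, 3], [1, 0, 3], [3, 1,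 3, 1, 0], [0, 3, 1, 0, 3, 1], [3, 1, 3, 1], [0, 3, 1, 0, 3], [1, 0, 3, 1, 0], [0, 3, 1, 0, 3, 0], [3, 1, 3, 0], [1, 0, 3, 0]]
/-- A group. -/
def B2 : List ℕ := [4969, 5224, 7033, 7544, 12653, 13422, 14686, 16221, 16747, 17263, 18479, 20011, 33825, 36257, 36393, 36777, 37713, 39873, 40648, 40792, 45428, 47567, 48511, 48836, 53619, 55470, 56190, 57251, 58403, 59437, 59843, 60365, 62292, 63652, 63835, 64939]
/-- Words. -/
def W2 : List (List ℕ) := [[3, 1, 0, 3, 1], [3, 1, 0, 3], [3, 1, 0, 3, 1, 0], [3, 1, 0, 3, 0], [3, 0, 3, 1], [3, 0, 3], [3, 0, 3, 0], [3, 0, 3, 1, 0], [3, 1, 0], [3, 0], [3], [3, 1], [], [0], [1], [1, 0], [3, 0, 3, 0, 3], [3, 0, 3, 0, 3, 0], [1, 3, 1, 0, 3], [1, 3, 1, 0, 3, 0], [1, 3, 0, 3, 0], [0, 3, 0, 3, 0], [0, 3, 0, 3], [1, 3, 0, 3], [0, 3, 1, 0], [0, 3], [0, 3, 0], [0, 3, 1], [1, 3, 1], [1, 3], [1, 3, 1, 0], [1, 3, 0], [1, 0, 3, 0], [1, 0, 3], [1,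 0, 3, 1, 0], [1, 0, 3, 1]]
/-- A group. -/
def B3 : List ℕ := [4969, 5224, 7033, 7544, 33825, 36257, 36393, 36777, 37713, 39873, 40648, 40792]
/-- Words. -/
def W3 : List (List ℕ) := [[3, 1], [3], [3, 1, 0], [3, 0], [], [0], [1], [1, 0], [3, 1, 3], [1, 3, 1], [1, 3], [1, 3, 0]]

theorem inv_cl : ∀ M < 65536, mm M M = I4 → M ∈ TL ∨ M ∈ G13 ∨ M ∈ G2 ∨
    ∃ w ∈ [[0, 3], [1, 3], [2, 3], [0, 3, 0, 3, 1, 3]], bad (ev (lt M M) w) = true := by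
  have : allB 65536 (fun M => or' (not' (Nat.beq (mm M M) I4)) (or' (mem M TL) (or' (mem M G13) (or' (mem M G2)
      (anyL [[0, 3], [1, 3], [2, 3], [0, 3, 0, 3, 1, 3]] fun w => bad (ev (lt M M) w)))))) = true := by decide +kernel
  simpa only [allB_iff, or'_eq_true, not'_eq_true, Nat.beq_eq, mem_iff, anyL_iff, ← imp_iff_not_or] using this

theorem nrm_cl : ∀ r < 4096, nrm (32768 + r) = true → (∃ v < 15, app (32768 + r) (v + 1) = 0) ∨ 32768 + r ∈ A4 ∨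
    bad (32768 + r) = true ∨ bad (ev [32768 + r] [0, 0, 0]) = true := by
  have : allB 4096 (fun r => force (32768 + r) fun M => or' (not' (nrm M)) (or' (anyLT 15 fun v => Nat.beq (app M (v + 1)) 0)
      (or' (mem M A4) (or' (bad M) (bad (ev [M] [0, 0, 0])))))) = true := by decide +kernel
  simpa only [allB_iff, force_eq, or'_eq_true, not'_eq_true, Nat.beq_eq, mem_iff, anyLT_iff, ← imp_iff_not_or] using this

theorem fix_cl : ∀ d < 16, ∀ s ∈ TL, ∀ s' ∈ TL, app s d = d → app s' d = d → s = I4 ∨ s' = I4 ∨ s = s' ∨ d = 0 ∨ d = 8 := by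
  decide +kernel

theorem orb13 : ∀ M ∈ G13, ∃ w ∈ WN, ∃ u ∈ [18481, 18479], mm (ev gN w) M = mm u (ev gN w) := by decide +kernel
theorem orb2 : ∀ M ∈ G2, ∃ w ∈ WN, mm (ev gN w) M = mm 5224 (ev gN w) := by decide +kernel

/-- The certificate for `B = ⟨T, u⟩`. -/
structure Ct (u : ℕ) (B : List ℕ) (W : List (List ℕ)) : Prop where
  ev : W.map (ev (lt u u)) = B
  le : ∀ t ∈ TL, t ∈ B
  syl : ∀ a ∈ B, mm a a = I4 → ∀ b ∈ B, mm b b = I4 → mm a b = mm b a →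
    ∃ c ∈ B, (∃ s ∈ TL, mm a c = mm c s) ∧ ∃ s ∈ TL, mm b c = mm c s
  a4 : ∀ M ∈ A4, M ∈ B ∨ (mm (U4T.ev [M, u] [0, 1, 0, 0]) (U4T.ev [M, u] [0, 1, 0, 0]) = I4 ∧ U4T.ev [M, u] [0, 1, 0, 0] ∉ B)

theorem ct1 : Ct 18481 B1 W1 := ⟨by decide +kernel, by decide +kernel, by decide +kernel, by decide +kernel⟩
theorem ct2 : Ct 18479 B2 W2 := ⟨by decide +kernel, by decide +kernel, by decide +kernel, by decide +kernel⟩
theorem ct3 : Ct 5224 B3 W3 := ⟨by decide +kernel, by decide +kernel, by decide +kernel, by decide +kernel⟩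

theorem pr1 : ∀ v ∈ G13 ++ G2, v ∈ B1 ∨ ∃ w ∈ [[0, 3, 4, 0, 4], [0, 3, 4], [1, 3, 2, 4]], bad (ev (lt 18481 v) w) = true := by
  decide +kernel

theorem pr2 : ∀ v ∈ G13 ++ G2, v ∈ B2 ∨
    ∃ w ∈ [[1, 3, 4, 3, 4], [0, 3, 0, 3, 4], [2, 3, 2, 3, 4], [0, 3, 2, 4], [1, 3, 4]], bad (ev (lt 18479 v) w) = true := by
  decide +kernel

theorem pr3 : ∀ v ∈ G2, v ∈ B3 ∨
    ∃ w ∈ [[2, 3, 4], [3, 4], [0, 3, 4]], bad (ev (lt 5224 v) w) = true ∨ ev (lt 5224 v) w ∈ G13 := by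
  decide +kernel

end Cfsg.Agent.U4T
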