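import Cfsg.Agent.U4T.Gen
import Cfsg.Agent.U4T.CmbA

/-! The subgroups of `Aut(2⁴)` with the Sylow 2-subgroup `Tn As`. -/

set_option autoImplicit false
set_option linter.unusedSimpArgs false
set_option maxRecDepth 100000

namespace Cfsg.Agent.U4T

open Subgroup Cfsg.Agent.RFS Cfsg.Agent.Fus Cfsg.FusionSystem Cfsg.Agent.SpF Cfsg.Agent.U5F Cfsg.Agent.Comp

/-- `Tn As` is a Sylow subgroup of `A`. -/
def Sy (A : Subgroup (MulAut As)) : Prop := Tn As ≤ A ∧ SylIn 2 (Tn As) A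

/-- `A` contains an `Aut S`-conjugate of `u`. -/
def Cv (A : Subgroup (MulAut As)) (u : ℕ) : Prop := ∃ α ∈ A, ∃ γ : MulAut S, cJ.ρ (rA γ * α * (rA γ)⁻¹) = u

variable {A A' : Subgroup (MulAut As)} {α β υ : MulAut As}

theorem ρ1 : cJ.ρ (cA (el 1)) = 36257 := (ρ_cA _).trans (by decide +kernel)
theorem ρ2 : cJ.ρ (cA (el 2)) = 36393 := (ρ_cA _).trans (by decide +kernel)

theorem ρ_eq_one : cJ.ρ α = I4 ↔ α = 1 := ⟨fun h => ρJ_inj (h.trans cJ.ρ_one.symm), fun h => h ▸ cJ.ρ_one⟩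

theorem exT {M : ℕ} (h : M ∈ TL) : ∃ t ∈ Tn As, cJ.ρ t = M := by
  obtain ⟨g, e⟩ := (by decide +kernel : ∀ M ∈ TL, ∃ g : S, TL.getD (cd g % 4) 0 = M) _ h
  exact ⟨cA g, ⟨g, rfl⟩, (ρ_cA g).trans e⟩

theorem norm_of (h1 : α * cA (el 1) * α⁻¹ ∈ Tn As) (h2 : α * cA (el 2) * α⁻¹ ∈ Tn As) : ∀ t ∈ Tn As, α * t * α⁻¹ ∈ Tn As := by
  intro t ht
  have := mem_TnA.1 ht
  simp only [TL, List.mem_cons, List.not_mem_nil, or_false] at this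
  obtain e | e | e | e := this
  · rw [ρ_eq_one.1 e, mul_one, mul_inv_cancel]; exact one_mem _
  · rwa [ρJ_inj (e.trans ρ1.symm)]
  · rwa [ρJ_inj (e.trans ρ2.symm)]
  · rw [show t = cA (el 1) * cA (el 2) from ρJ_inj (by rw [e, cJ.ρ_mul, ρ1, ρ2]; decide +kernel)]
    convert mul_mem h1 h2 using 1
    group

theorem conj_mem_of {t : MulAut As} (h : ∃ s ∈ TL, mm (cJ.ρ α) (cJ.ρ t) = mm s (cJ.ρ α)) : α * t * α⁻¹ ∈ Tn As := by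
  obtain ⟨s, hs, e⟩ := h
  obtain ⟨σ, h, rfl⟩ := exT hs
  rw [← cJ.ρ_mul, ← cJ.ρ_mul] at e
  rwa [ρJ_inj e, mul_inv_cancel_right]

theorem nrm_iff' : nrm (cJ.ρ α) = true ↔ ∀ t ∈ Tn As, α * t * α⁻¹ ∈ Tn As := by
  rw [nrm_iff, ← ρ1, ← ρ2]
  refine ⟨fun h => norm_of (conj_mem_of h.1) (conj_mem_of h.2), fun h => ?_⟩
  have k : ∀ g, ∃ s ∈ TL, mm (cJ.ρ α) (cJ.ρ (cA g)) = mm s (cJ.ρ α) := fun g =>
    ⟨_, mem_TnA.1 (h _ ⟨g, rfl⟩), by rw [← cJ.ρ_mul, ← cJ.ρ_mul, inv_mul_cancel_right]; rfl⟩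
  exact ⟨k _, k _⟩

theorem sq_T {t : MulAut As} (h : t ∈ Tn As) : t * t = 1 :=
  ρ_eq_one.1 ((cJ.ρ_mul t t).trans ((by decide +kernel : ∀ M ∈ TL, mm M M = I4) _ (mem_TnA.1 h)))

theorem not_bad (h : Sy A) (hα : α ∈ A) : ¬ bad (cJ.ρ α) = true := by
  rw [bad_iff, ← cJ.ρ_mul, ← cJ.ρ_mul, Ne, ρ_eq_one, ρ_eq_one, ← mem_TnA, ← mem_TnA, nrm_iff']
  rintro (⟨h1, h2⟩ | ⟨h1, h2, h3⟩)
  · have z : IsPGroup 2 (zpowers α) := by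
      rintro ⟨_, n, rfl⟩
      refine ⟨2, Subtype.ext ?_⟩
      have e : α ^ 2 ^ 2 = 1 := by rw [← h2, show 2 ^ 2 = 4 from rfl]; simp only [pow_succ, pow_zero, mul_assoc, one_mul]
      show (α ^ n) ^ 2 ^ 2 = 1
      rw [← zpow_natCast, ← zpow_mul, mul_comm, zpow_mul, zpow_natCast, e, one_zpow]
    obtain ⟨g, -, hg⟩ := h.2.exists_conj z (zpowers_le.2 hα)
    have := sq_T (hg α (mem_zpowers α))
    exact h1 (by rwa [conj_mul, conj_eq_one_iff] at this)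
  · exact h2 (norm2 h.2 h.1 hα h3 h1)

theorem app_ne {v : ℕ} (hv : v < 16) (h : app (cJ.ρ α) v = 0) : v = 0 := by
  have e := cJ.jv_afn α⁻¹ (afn_mem α (cJ.mem v))
  rw [afn_inv_afn _ (cJ.mem v), cJ.jv_afn α (cJ.mem v), cJ.jv_e v hv, h] at e
  simpa [app_def] using e

theorem fix_of (h : ∀ t ∈ Tn As, α * t * α⁻¹ ∈ Tn As) : app (cJ.ρ α) 8 = 8 := by
  have z : el 32 ∈ As := by decide +kernel
  have e : cJ.jv (afn α (el 32)) = app (cJ.ρ α) 8 := cJ.jv_afn α z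
  have k : ∀ g, app (cJ.ρ (α * cA g * α⁻¹)) (app (cJ.ρ α) 8) = app (cJ.ρ α) 8 := fun g => by
    rw [← e, ← cJ.jv_afn _ (afn_mem α z), ← afn_mul _ _ z, inv_mul_cancel_right, afn_mul _ _ z,
      U4F.cA_Z1 g (by decide +kernel)]
  obtain c | c | c | c | c := fix_cl _ (e ▸ cJ.lt _) _ (mem_TnA.1 (h _ ⟨el 1, rfl⟩)) _ (mem_TnA.1 (h _ ⟨el 2, rfl⟩)) (k _) (k _)
  · exact absurd (ρ1.symm.trans (ρ_eq_one.2 (conj_eq_one_iff.1 (ρ_eq_one.1 c)))) (by decide)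
  · exact absurd (ρ2.symm.trans (ρ_eq_one.2 (conj_eq_one_iff.1 (ρ_eq_one.1 c)))) (by decide)
  · exact absurd (ρ1.symm.trans ((congrArg cJ.ρ (mul_left_cancel (mul_right_cancel (ρJ_inj c)))).trans ρ2)) (by decide)
  · exact absurd (app_ne (by omega) c) (by decide)
  · exact c

theorem mem_A4 (h : Sy A) (hα : α ∈ A) (hn : ∀ t ∈ Tn As, α * t * α⁻¹ ∈ Tn As) : cJ.ρ α ∈ A4 := by
  have f := fix_of hn
  have l := cJ.ρ_lt α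
  simp only [app_def, Nat.reduceMod, Nat.reduceDiv, zero_mul, one_mul, Nat.zero_xor] at f
  obtain ⟨r, e⟩ : ∃ r, cJ.ρ α = 32768 + r := ⟨cJ.ρ α - 32768, by omega⟩
  have := nrm_cl r (by omega)
  rw [← e] at this
  obtain ⟨v, hv, c⟩ | c | c | c := this (nrm_iff'.2 hn)
  · exact absurd (app_ne (by omega) c) (by omega)
  · exact c
  · exact absurd c (not_bad h hα)
  · obtain ⟨β, hβ, e⟩ := cJ.ev_mem A (l := [cJ.ρ α]) (by simpa using ⟨α, hα, rfl⟩) [0, 0, 0]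
    exact absurd (e ▸ c) (not_bad h hβ)

theorem ev_lt (h : Tn As ≤ A) (hα : α ∈ A) (hβ : β ∈ A) (w : List ℕ) : ∃ γ ∈ A, cJ.ρ γ = ev (lt (cJ.ρ α) (cJ.ρ β)) w := by
  refine cJ.ev_mem A (fun M hM => ?_) w
  have k : M ∈ TL → ∃ γ ∈ A, cJ.ρ γ = M := fun k => (exT k).imp fun _ e => ⟨h e.1, e.2⟩
  simp only [lt, List.mem_cons, List.not_mem_nil, or_false] at hM
  obtain rfl | rfl | rfl | rfl | rfl := hM
  exacts [k (by decide), k (by decide), k (by decide), ⟨α, hα, rfl⟩, ⟨β, hβ, rfl⟩]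

theorem not_bad' (h : Sy A) (hα : α ∈ A) (hβ : β ∈ A) (w : List ℕ) : ¬ bad (ev (lt (cJ.ρ α) (cJ.ρ β)) w) = true := by
  obtain ⟨γ, hγ, e⟩ := ev_lt h.1 hα hβ w
  exact e ▸ not_bad h hγ

theorem inv_mem_G (h : Sy A) (hα : α ∈ A) (h2 : α * α = 1) : cJ.ρ α ∈ TL ∨ cJ.ρ α ∈ G13 ∨ cJ.ρ α ∈ G2 := by
  obtain c | c | c | ⟨w, -, c⟩ := inv_cl _ (cJ.ρ_lt α) ((cJ.ρ_mul α α).symm.trans (ρ_eq_one.2 h2))
  exacts [.inl c, .inr (.inl c), .inr (.inr c), absurd c (not_bad' h hα hα w)]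

/-- If all involutions of `A` lie in `⟨T, υ⟩` then `A = ⟨T, υ⟩`. -/
theorem le_gen (h : Sy A) (hυ : υ ∈ A) {B : List ℕ} {W : List (List ℕ)} (c : Ct (cJ.ρ υ) B W)
    (hi : ∀ α ∈ A, α * α = 1 → cJ.ρ α ∈ B) (hT : Tn As ≤ A') (hυ' : υ ∈ A') : A ≤ A' := by
  have k : ∀ M ∈ B, ∃ β ∈ A ⊓ A', cJ.ρ β = M := fun M hM => by
    obtain ⟨w, -, rfl⟩ := List.mem_map.1 (c.ev ▸ hM)
    exact ev_lt (le_inf h.1 hT) ⟨hυ, hυ'⟩ ⟨hυ, hυ'⟩ w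
  intro α hα
  have m : ∀ g, α * cA g * α⁻¹ ∈ A := fun g => mul_mem (mul_mem hα (h.1 ⟨g, rfl⟩)) (inv_mem hα)
  have s : ∀ g, α * cA g * α⁻¹ * (α * cA g * α⁻¹) = 1 := fun g => by rw [conj_mul, sq_T (t := cA g) ⟨g, rfl⟩, mul_one, mul_inv_cancel]
  obtain ⟨M, hM, h1, h2⟩ := c.syl _ (hi _ (m (el 1)) (s _)) (by rw [← cJ.ρ_mul, s, cJ.ρ_one]) _ (hi _ (m (el 2)) (s _))
    (by rw [← cJ.ρ_mul, s, cJ.ρ_one]) (by
      rw [← cJ.ρ_mul, ← cJ.ρ_mul, conj_mul, conj_mul, show cA (el 1) * cA (el 2) = cA (el 2) * cA (el 1) from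
        ρJ_inj (by rw [cJ.ρ_mul, cJ.ρ_mul, ρ1, ρ2]; decide +kernel)])
  obtain ⟨β, hβ, rfl⟩ := k M hM
  have n : ∀ g, (∃ s ∈ TL, mm (cJ.ρ (α * cA g * α⁻¹)) (cJ.ρ β) = mm (cJ.ρ β) s) → β⁻¹ * α * cA g * (β⁻¹ * α)⁻¹ ∈ Tn As := by
    rintro g ⟨s, hs, e⟩
    obtain ⟨σ, h, rfl⟩ := exT hs
    rw [← cJ.ρ_mul, ← cJ.ρ_mul] at e
    rwa [show β⁻¹ * α * cA g * (β⁻¹ * α)⁻¹ = β⁻¹ * (α * cA g * α⁻¹ * β) by group, ρJ_inj e, inv_mul_cancel_left]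
  have hδ := A.mul_mem (A.inv_mem hβ.1) hα
  obtain c' | ⟨c1, c2⟩ := c.a4 _ (mem_A4 h hδ (norm_of (n _ h1) (n _ h2)))
  · obtain ⟨δ, hδ, e⟩ := k _ c'
    exact (A'.mul_mem_cancel_left (A'.inv_mem hβ.2)).1 (ρJ_inj e ▸ hδ.2)
  · obtain ⟨δ, hδ, e⟩ := cJ.ev_mem A (l := [cJ.ρ (β⁻¹ * α), cJ.ρ υ]) (by simpa using ⟨⟨_, hδ, rfl⟩, υ, hυ, rfl⟩) [0, 1, 0, 0]
    rw [← e] at c1 c2
    exact absurd (hi δ hδ (ρ_eq_one.1 ((cJ.ρ_mul δ δ).trans c1))) c2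

theorem c1 (h : Sy A) (hυ : υ ∈ A) (e : cJ.ρ υ = 18481 ∨ cJ.ρ υ = 18479) (hT : Tn As ≤ A') (hυ' : υ ∈ A') : A ≤ A' := by
  obtain e | e := e
  · refine le_gen h hυ (e ▸ ct1) (fun α hα h2 => (inv_mem_G h hα h2).elim (ct1.le _) fun c => ?_) hT hυ'
    exact (pr1 _ (List.mem_append.2 c)).resolve_right fun ⟨w, _, c⟩ => not_bad' h hυ hα w (e ▸ c)
  · refine le_gen h hυ (e ▸ ct2) (fun α hα h2 => (inv_mem_G h hα h2).elim (ct2.le _) fun c => ?_) hT hυ'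
    exact (pr2 _ (List.mem_append.2 c)).resolve_right fun ⟨w, _, c⟩ => not_bad' h hυ hα w (e ▸ c)

/-- The Frobenius automorphism. -/
def frob : K4 ≃+* K4 where
  toFun := L4S.F.fr
  invFun := L4S.F.fr
  left_inv := by decide
  right_inv := by decide
  map_mul' := by decide
  map_add' := by decide

theorem exN (w : List ℕ) : ∃ γ : MulAut S, cJ.ρ (rA γ) = ev gN w := by
  refine (cJ.ev_mem rA.range (l := gN) (fun M hM => ?_) w).elim fun _ ⟨⟨γ, e'⟩, e⟩ => ⟨γ, e' ▸ e⟩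
  have k : ∀ γ : MulAut S, cJ.mx γ = M → ∃ α ∈ rA.range, cJ.ρ α = M := fun γ e =>
    ⟨_, ⟨γ, rfl⟩, (cJ.ρ_eq fun _ => afn_res γ).trans e⟩
  simp only [gN, List.mem_cons, List.not_mem_nil, or_false] at hM
  obtain rfl | rfl | rfl | rfl | rfl := hM
  exacts [k (MulAut.conj (el 1)) (by decide +kernel), k (MulAut.conj (el 2)) (by decide +kernel),
    k (U4F.tf (Units.mk0 .w (by decide)) 1 1) (by decide +kernel), k (U4F.tf 1 1 frob) (by decide +kernel),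
    k (U4F.zk 1 (map_one _)) (by decide +kernel)]

theorem cv_of (hα : α ∈ A) {w w' : List ℕ} (h : mm (ev gN w) (ev gN w') = I4) :
    Cv A (mm (mm (ev gN w) (cJ.ρ α)) (ev gN w')) := by
  obtain ⟨γ, e⟩ := exN w
  obtain ⟨γ', e'⟩ := exN w'
  rw [← e, ← e', ← cJ.ρ_mul, ρ_eq_one] at h
  exact ⟨α, hα, γ, by rw [inv_eq_of_mul_eq_one_right h, cJ.ρ_mul, cJ.ρ_mul, e, e']⟩

/-- The inverse word. -/
def iw (w : List ℕ) : List ℕ := w.reverse.flatMap fun i => if i = 2 then [2, 2] else [i]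

theorem cv13 (hα : α ∈ A) (h : cJ.ρ α ∈ G13) : Cv A 18481 ∨ Cv A 18479 := by
  obtain ⟨w, -, h1, h2⟩ := (by decide +kernel : ∀ M ∈ G13, ∃ w ∈ WN, mm (ev gN w) (ev gN (iw w)) = I4 ∧
    (mm (mm (ev gN w) M) (ev gN (iw w)) = 18481 ∨ mm (mm (ev gN w) M) (ev gN (iw w)) = 18479)) _ h
  obtain h2 | h2 := h2
  exacts [.inl (h2 ▸ cv_of hα h1), .inr (h2 ▸ cv_of hα h1)]

theorem cv2 (hα : α ∈ A) (h : cJ.ρ α ∈ G2) : Cv A 5224 := by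
  obtain ⟨w, -, h1, h2⟩ := (by decide +kernel : ∀ M ∈ G2, ∃ w ∈ WN, mm (ev gN w) (ev gN (iw w)) = I4 ∧
    mm (mm (ev gN w) M) (ev gN (iw w)) = 5224) _ h
  exact h2 ▸ cv_of hα h1

theorem c2 (h : Sy A) (hυ : υ ∈ A) (e : cJ.ρ υ = 5224) :
    (Cv A 18481 ∨ Cv A 18479) ∨ ∀ α ∈ A, mm (cJ.ρ α) 36257 = mm 36257 (cJ.ρ α) := by
  refine or_iff_not_imp_left.2 fun n α hα => ?_
  have k : ∀ {β}, β ∈ centralizer {cA (el 1)} ↔ mm (cJ.ρ β) 36257 = mm 36257 (cJ.ρ β) := by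
    intro β
    rw [mem_centralizer_singleton_iff, ← ρ1, ← cJ.ρ_mul, ← cJ.ρ_mul]
    exact ⟨congrArg _, ρJ_inj⟩
  refine k.1 (le_gen h hυ (e ▸ ct3) (fun α hα h2 => ?_) (fun t ht => k.2 ?_) (k.2 ?_) hα)
  · obtain c | c | c := inv_mem_G h hα h2
    · exact ct3.le _ c
    · exact absurd (cv13 hα c) n
    · refine (pr3 _ c).resolve_right fun ⟨w, _, c⟩ => c.elim (fun c => not_bad' h hυ hα w (e ▸ c)) fun c => ?_
      obtain ⟨γ, hγ, e'⟩ := ev_lt h.1 hυ hα w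
      exact n (cv13 hγ (e' ▸ e ▸ c))
  · exact (by decide +kernel : ∀ M ∈ TL, mm M 36257 = mm 36257 M) _ (mem_TnA.1 ht)
  · rw [e]
    decide +kernel

theorem c0 (h : Sy A) : (Cv A 18481 ∨ Cv A 18479) ∨ Cv A 5224 ∨ ∀ α ∈ A, app (cJ.ρ α) 8 = 8 := by
  refine or_iff_not_imp_left.2 fun n => or_iff_not_imp_left.2 fun n' α hα => fix_of fun t ht => mem_TnA.2 ?_
  have m := A.mul_mem (A.mul_mem hα (h.1 ht)) (A.inv_mem hα)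
  obtain c | c | c := inv_mem_G h m (by rw [conj_mul, sq_T ht, mul_one, mul_inv_cancel])
  exacts [c, absurd (cv13 m c) n, absurd (cv2 m c) n']

end Cfsg.Agent.U4T
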