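import Cfsg.Agent.U4T.Bas
import Cfsg.Agent.U4F.Fin

/-! Small general lemmas. -/

set_option autoImplicit false
set_option linter.unusedSimpArgs false
set_option maxRecDepth 100000

namespace Cfsg.Agent.U4T

open Subgroup Cfsg.Agent.RFS Cfsg.Agent.Fus Cfsg.FusionSystem Cfsg.Agent.SpF Cfsg.Agent.U5F Cfsg.Agent.Comp

/-- An element normalising the Sylow subgroup `T` with square in `T` lies in `T`. -/
theorem norm2 {G : Type*} [Group G] [Finite G] {T A : Subgroup G} (h : SylIn 2 T A) (hT : T ≤ A) {α : G} (hα : α ∈ A)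
    (hn : ∀ t ∈ T, α * t * α⁻¹ ∈ T) (h2 : α * α ∈ T) : α ∈ T := by
  have p := h.isPGroup hT
  have z : IsPGroup 2 (zpowers α) := by
    obtain ⟨k, hk⟩ := p ⟨_, h2⟩
    rintro ⟨_, n, rfl⟩
    refine ⟨k + 1, Subtype.ext ?_⟩
    have e : α ^ 2 ^ (k + 1) = 1 := by rw [pow_succ', pow_mul, sq]; exact congrArg Subtype.val hk
    show (α ^ n) ^ 2 ^ (k + 1) = 1
    rw [← zpow_natCast, ← zpow_mul, mul_comm, zpow_mul, zpow_natCast, e, one_zpow]
  exact (h.eq_of_le hT (z.to_sup_of_normal_right' p (zpowers_le.2 (mem_normalizer_fintype hn))) le_sup_right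
    (sup_le (zpowers_le.2 hα) hT)).le (mem_sup_left (mem_zpowers α))

instance {P : Subgroup S} : Finite (MulAut P) := Finite.of_injective (fun f : MulAut P => (f : P → P)) DFunLike.coe_injective

theorem pT : IsPGroup 2 (⊤ : Subgroup S) := U4F.pT

theorem ess {F : FusionSystem (⊤ : Subgroup S)} (hF : F.IsSaturated 2) {E : Subgroup S} (hE : F.IsEssential 2 E) :
    E = Qs ∨ E = As ∨ ∃ y, y ≠ 0 ∧ E = Ey y := (U4F.ess hF hE).imp_right (Or.imp_right And.right)

/-- `Xy 1`, `Xy w`, `Xb 1` are `el 1`, `el 2`, `el 16`; the centre is generated by `el 32`. -/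
def V1 : Subgroup S where
  carrier := {g | cd g % 32 ∈ [0, 1, 4, 5]}
  one_mem' := by decide +kernel
  mul_mem' := fun {a b} => by revert a b; simp only [Set.mem_ofPred_eq]; decide +kernel
  inv_mem' := fun {a} => by revert a; simp only [Set.mem_ofPred_eq]; decide +kernel

theorem mem_V1 {g : S} : g ∈ V1 ↔ cd g % 32 ∈ [0, 1, 4, 5] := Iff.rfl

instance (g : S) : Decidable (g ∈ V1) := decidable_of_iff _ mem_V1.symm

end Cfsg.Agent.U4T
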