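import Cfsg.Agent.U4T.Gen

/-!
The automizer `B` of `Q = 2^{1+4}`.  Notation: `ρ = cq.ρ` (`Co.ρ_mul ρ_one ρ_lt ρ_eq jv_afn`), `s = cQ (el 16)`, `ρ s = 33957`,
`ρ ω0 = 8580`, `mm (mm 33957 8580) 33957 = mm (mm 8580 33957) 8580 = 42273`, `I4 = 33825`.  Finite checks over `S`: `decide +kernel`
(instances `decAll`, `decEx`; use codes `cd_mul`, `m`, `iv` and `allB`/`allLT`/`and'`/`or'` of `Comp/Basic` for big loops).
ALWAYS run lean with `timeout 300`.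
-/

set_option autoImplicit false
set_option linter.unusedSimpArgs false
set_option maxRecDepth 100000
set_option synthInstance.maxSize 1000000
set_option synthInstance.maxHeartbeats 400000

namespace Cfsg.Agent.U4T

open Subgroup Cfsg.Agent.RFS Cfsg.Agent.Fus Cfsg.FusionSystem Cfsg.Agent.SpF Cfsg.Agent.U5F Cfsg.Agent.Comp

theorem ρ_s : cq.ρ (cQ (el 16)) = 33957 := by
  rw [cq.ρ_eq fun _ => U4F.afn_cQ _]
  decide +kernel

theorem ρ_ω : cq.ρ (U4F.ω0 K4) = 8580 := by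
  rw [cq.ρ_eq fun _ => U4F.afn_ω0]
  decide +kernel

/-- Two automorphisms agreeing on `el 1, el 2, el 4, el 8` agree: the equaliser is a subgroup (`MonoidHom.eqLocus` or `homOn_afn`),
and every `x ∈ Qs` is `el 1 ^ a * el 2 ^ b * el 4 ^ c * el 8 ^ d * (el 1 * el 8 * el 1 * el 8) ^ e` with exponents `< 2` (decide). -/
theorem extQ {α β : MulAut Qs} (h : ∀ i ∈ [1, 2, 4, 8], afn α (el i) = afn β (el i)) : α = β := by
  let E : Subgroup S :=
    { carrier := {x | x ∈ Qs ∧ afn α x = afn β x}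
      one_mem' := ⟨one_mem _, by rw [(homOn_afn α).map_one, (homOn_afn β).map_one]⟩
      mul_mem' := fun {a b} ha hb => ⟨mul_mem ha.1 hb.1, by
        rw [homOn_afn α a ha.1 b hb.1, homOn_afn β a ha.1 b hb.1, ha.2, hb.2]⟩
      inv_mem' := fun {a} ha => ⟨inv_mem ha.1, by
        rw [(homOn_afn α).map_inv ha.1, (homOn_afn β).map_inv ha.1, ha.2]⟩ }
  have e1 : el 1 ∈ E := ⟨by decide +kernel, h 1 (by simp)⟩
  have e2 : el 2 ∈ E := ⟨by decide +kernel, h 2 (by simp)⟩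
  have e4 : el 4 ∈ E := ⟨by decide +kernel, h 4 (by simp)⟩
  have e8 : el 8 ∈ E := ⟨by decide +kernel, h 8 (by simp)⟩
  have k : ∀ x : S, x ∈ Qs → ∃ a < 2, ∃ b < 2, ∃ c < 2, ∃ d < 2, ∃ e < 2,
      x = el 1 ^ a * el 2 ^ b * el 4 ^ c * el 8 ^ d * (el 1 * el 8 * el 1 * el 8) ^ e := by decide +kernel
  refine aut_ext fun x hx => ?_
  obtain ⟨a, -, b, -, c, -, d, -, e, -, rfl⟩ := k x hx
  exact (mul_mem (mul_mem (mul_mem (mul_mem (pow_mem e1 a) (pow_mem e2 b)) (pow_mem e4 c)) (pow_mem e8 d))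
    (pow_mem (mul_mem (mul_mem (mul_mem e1 e8) e1) e8) e) : _ ∈ E).2

/-- `cq.jv_afn` gives `cd (afn α (el i)) % 16 = app I4 i = i`, and `afn α (el i) ∈ Qs`, so it is `el (i + 32 k)`, `k < 2`; for each of
the 16 choices there is `g ∈ Qs` with `g * el i * g⁻¹ = el (i + 32 kᵢ)` (decide); `extQ`, `mem_Inn'`, `U4F.afn_cQ`. -/
theorem inn_of_ρ {α : MulAut Qs} (h : cq.ρ α = I4) : α ∈ Inn Qs := by
  have k0 : ∀ i < 16, el i ∈ Qs ∧ app I4 (cd (el i) % 16) = i := by decide +kernel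
  have k1 : ∀ i < 16, ∃ a < 2, afn α (el i) = el (i + 32 * a) := fun i hi => by
    have e : cd (afn α (el i)) % 16 = app (cq.ρ α) (cd (el i) % 16) := cq.jv_afn α (k0 i hi).1
    rw [h, (k0 i hi).2] at e
    have h1 := (Qs_cd _).1 (afn_mem α (k0 i hi).1)
    have h2 := cd_lt (afn α (el i))
    exact ⟨cd (afn α (el i)) / 32, by omega, (el_cd _).symm.trans (congrArg el (by omega))⟩
  have k2 : ∀ a < 2, ∀ b < 2, ∀ c < 2, ∀ d < 2, ∃ g : S, g ∈ Qs ∧ g * el 1 * g⁻¹ = el (1 + 32 * a) ∧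
      g * el 2 * g⁻¹ = el (2 + 32 * b) ∧ g * el 4 * g⁻¹ = el (4 + 32 * c) ∧
      g * el 8 * g⁻¹ = el (8 + 32 * d) := by decide +kernel
  obtain ⟨a, ha, a1⟩ := k1 1 (by omega)
  obtain ⟨b, hb, b1⟩ := k1 2 (by omega)
  obtain ⟨c, hc, c1⟩ := k1 4 (by omega)
  obtain ⟨d, hd, d1⟩ := k1 8 (by omega)
  obtain ⟨g, hg, g1, g2, g3, g4⟩ := k2 a ha b hb c hc d hd
  refine mem_Inn'.2 ⟨g, hg, extQ fun i hi => ?_⟩
  simp only [List.mem_cons, List.not_mem_nil, or_false] at hi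
  rcases hi with rfl | rfl | rfl | rfl
  · rw [U4F.afn_cQ g (k0 _ (by omega)).1, g1, a1]
  · rw [U4F.afn_cQ g (k0 _ (by omega)).1, g2, b1]
  · rw [U4F.afn_cQ g (k0 _ (by omega)).1, g3, c1]
  · rw [U4F.afn_cQ g (k0 _ (by omega)).1, g4, d1]

theorem q_sT : cQ (el 16) ∈ Tn Qs := ⟨el 16, rfl⟩

theorem q_ss : cQ (el 16) * cQ (el 16) = 1 := by
  rw [← map_mul, ← map_mul, show el 16 * el 16 = 1 by decide +kernel, map_one, map_one]

theorem q_inn {α : MulAut Qs} (h : α ∈ Inn Qs) : cq.ρ α = I4 := by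
  obtain ⟨g, hg, rfl⟩ := mem_Inn'.1 h
  rw [cq.ρ_eq fun _ => U4F.afn_cQ g]
  clear h
  revert g
  decide +kernel

theorem q_inn' {α : MulAut Qs} (h : cq.ρ α = 33957) : α * cQ (el 16) ∈ Inn Qs :=
  inn_of_ρ (by rw [cq.ρ_mul, h, ρ_s]; decide +kernel)

/-- `→`: `cq.ρ_eq`, decide over `g`.  `←`: `inn_of_ρ` for `α` or `α * s` (`mm 33957 33957 = I4`), `inn_le_Tn`. -/
theorem mem_TnQ {α : MulAut Qs} : α ∈ Tn Qs ↔ cq.ρ α = I4 ∨ cq.ρ α = 33957 := by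
  refine ⟨?_, ?_⟩
  · rintro ⟨g, rfl⟩
    change cq.ρ (cQ g) = I4 ∨ cq.ρ (cQ g) = 33957
    rw [cq.ρ_eq fun _ => U4F.afn_cQ g]
    revert g
    decide +kernel
  · rintro (h | h)
    · exact inn_le_Tn (inn_of_ρ h)
    · simpa using mul_mem (inn_le_Tn (q_inn' h)) (inv_mem q_sT)

/-- Enumeration (`allB 65536`; test the cheap conditions first; `27328` has bit `v` iff `el v * el v ≠ 1`, `v < 16`). -/
theorem enumQ : ∀ M < 65536, mm M M = I4 → (∀ v < 16, m (app M v) (app M v) = m v v) →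
    (∀ v < 16, m v (app M v) = m (app M v) v) → M ∈ [33825, 33957, 8580, 42273, 18450, 35875, 50225] := by
  have k : ∀ a < 16, m a a = m 1 1 → m 1 a = m a 1 → ∀ b < 16, m b b = m 2 2 → m 2 b = m b 2 →
      ∀ c < 16, m c c = m 4 4 → m 4 c = m c 4 → ∀ d < 16, m d d = m 8 8 → m 8 d = m d 8 →
      mm (mk4 a b c d) (mk4 a b c d) = I4 →
      (∀ v < 16, m (app (mk4 a b c d) v) (app (mk4 a b c d) v) = m v v) →
      (∀ v < 16, m v (app (mk4 a b c d) v) = m (app (mk4 a b c d) v) v) →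
      mk4 a b c d ∈ [33825, 33957, 8580, 42273, 18450, 35875, 50225] := by decide +kernel
  intro M hM h1 h2 h3
  have e : M = mk4 (app M 1) (app M 2) (app M 4) (app M 8) := by
    simp only [mk4_def, app_def]
    norm_num
    omega
  have l : ∀ v ∈ [1, 2, 4, 8], app M v < 16 := by
    simp only [List.mem_cons, List.not_mem_nil, or_false]
    rintro v (rfl | rfl | rfl | rfl) <;> simp only [app_def] <;> norm_num <;> omega
  have := k _ (l 1 (by simp)) (h2 1 (by omega)) (h3 1 (by omega)) _ (l 2 (by simp)) (h2 2 (by omega))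
    (h3 2 (by omega)) _ (l 4 (by simp)) (h2 4 (by omega)) (h3 4 (by omega)) _ (l 8 (by simp))
    (h2 8 (by omega)) (h3 8 (by omega))
  rw [← e] at this
  exact this h1 h2 h3

/-- `α` normalises `Tn Qs` if `α s α⁻¹ ∈ Tn Qs`: for `t ∈ Tn` either `t` or `t * s⁻¹` is inner (`mem_TnQ`, `inn_of_ρ`), `inn_normal`. -/
theorem normQ {α : MulAut Qs} (h : α * cQ (el 16) * α⁻¹ ∈ Tn Qs) : ∀ t ∈ Tn Qs, α * t * α⁻¹ ∈ Tn Qs := by
  intro t ht
  rcases mem_TnQ.1 ht with e | e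
  · exact inn_le_Tn (inn_normal.conj_mem _ (inn_of_ρ e) α)
  · have := mul_mem (inn_le_Tn (inn_normal.conj_mem _ (q_inn' e) α)) (inv_mem h)
    rwa [show α * (t * cQ (el 16)) * α⁻¹ * (α * cQ (el 16) * α⁻¹)⁻¹ = α * t * α⁻¹ by group] at this

theorem q_fixZ (α : MulAut Qs) {z : S} (hz : z ∈ Z1) : afn α z = z := by
  have k : ∀ z : S, z ∈ Z1 → z ∈ Qs ∧ (z = 1 ∨ z = el 32) := by decide +kernel
  have h1 := (k z hz).1
  rcases (k z hz).2 with rfl | rfl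
  · exact (homOn_afn α).map_one
  · refine (k _ (U4F.chQ_Z1 α _ h1 hz)).2.resolve_left fun e => ?_
    have := afn_inv_afn α h1
    rw [e, (homOn_afn α⁻¹).map_one] at this
    exact absurd this (by decide +kernel)

variable {A₀ : Subgroup (MulAut S)} {B : Subgroup (MulAut Qs)}

/-- `τ = α s α⁻¹`: `τ τ = 1` (`s s = cQ 1`), `(τ g)² = τ (g²) = g²` (`g² ∈ Z1`, which has order 2 and is preserved, `chQ_Z1`),
`g` commutes with `τ g` (true for `s` by decide, transport by `α`); squares and commutation in `Qs` depend only on `cd % 16` (decide),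
so `enumQ` applies.  `I4` is impossible (`τ` inner ⇒ `s` inner ⇒ `ρ s = I4`).  The last three commute with `33957`, so
`τ s τ⁻¹ ∈ Tn` (`mem_TnQ`; `τ⁻¹ = τ`), `normQ`, `norm2 L.syl (L.Tn_le h₀)` give `τ ∈ Tn`, contradicting `mem_TnQ`. -/
theorem keyQ (h₀ : SA 2 A₀) (L : Lc 2 A₀ Qs B) {α : MulAut Qs} (hα : α ∈ B) :
    cq.ρ (α * cQ (el 16) * α⁻¹) ∈ [33957, 8580, 42273] := by
  have k0 : ∀ i < 16, el i ∈ Qs ∧ cd (el i) % 16 = i := by decide +kernel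
  have k1 : ∀ g : S, g ∈ Qs → g * g ∈ Z1 ∧ cd (g * g) = m (cd g % 16) (cd g % 16) ∧
      g * (el 16 * g * (el 16)⁻¹) = el 16 * g * (el 16)⁻¹ * g := by decide +kernel
  have k2 : ∀ g : S, g ∈ Qs → ∀ h : S, h ∈ Qs → g * h = h * g →
      m (cd g % 16) (cd h % 16) = m (cd h % 16) (cd g % 16) := by decide +kernel
  have com : ∀ g ∈ Qs, g * afn (α * cQ (el 16) * α⁻¹) g = afn (α * cQ (el 16) * α⁻¹) g * g := fun g hg => by
    have h1 := afn_mem α⁻¹ hg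
    have h2 := afn_mem (cQ (el 16)) h1
    have := congrArg (afn α) (k1 _ h1).2.2
    rwa [← U4F.afn_cQ _ h1, homOn_afn α _ h1 _ h2, homOn_afn α _ h2 _ h1, afn_afn_inv α hg, ← afn_mul _ _ h1,
      ← afn_mul _ _ hg] at this
  have tt : α * cQ (el 16) * α⁻¹ * (α * cQ (el 16) * α⁻¹) = 1 := by
    rw [show α * cQ (el 16) * α⁻¹ * (α * cQ (el 16) * α⁻¹) = α * (cQ (el 16) * cQ (el 16)) * α⁻¹ by group, q_ss]
    group
  have n1 : α * cQ (el 16) * α⁻¹ ∉ Inn Qs := fun h => by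
    have := q_inn (inn_normal.conj_mem' _ h α)
    rw [show α⁻¹ * (α * cQ (el 16) * α⁻¹) * α = cQ (el 16) by group, ρ_s] at this
    exact absurd this (by decide)
  have τB : α * cQ (el 16) * α⁻¹ ∈ B := mul_mem (mul_mem hα (L.Tn_le h₀ q_sT)) (inv_mem hα)
  generalize α * cQ (el 16) * α⁻¹ = τ at *
  have jv : ∀ v < 16, cd (afn τ (el v)) % 16 = app (cq.ρ τ) v := fun v hv => by
    have e : cd (afn τ (el v)) % 16 = app (cq.ρ τ) (cd (el v) % 16) := cq.jv_afn τ (k0 v hv).1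
    rwa [(k0 v hv).2] at e
  have := enumQ _ (cq.ρ_lt τ) (by rw [← cq.ρ_mul, tt, cq.ρ_one]) (fun v hv => by
    have h1 := (k0 v hv).1
    rw [← jv v hv, ← (k1 _ (afn_mem τ h1)).2.1, ← homOn_afn τ _ h1 _ h1, q_fixZ τ (k1 _ h1).1, (k1 _ h1).2.1,
      (k0 v hv).2]) fun v hv => by
    have h1 := (k0 v hv).1
    have := k2 _ h1 _ (afn_mem τ h1) (com _ h1)
    rwa [jv v hv, (k0 v hv).2] at this
  have n2 : mm (mm (cq.ρ τ) 33957) (cq.ρ τ) = 33957 → cq.ρ τ = I4 ∨ cq.ρ τ = 33957 := fun e =>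
    mem_TnQ.1 (norm2 L.syl (L.Tn_le h₀) τB (normQ (mem_TnQ.2 (.inr (by
      rw [inv_eq_of_mul_eq_one_right tt, cq.ρ_mul, cq.ρ_mul, ρ_s, e])))) (tt ▸ one_mem _))
  simp only [List.mem_cons, List.not_mem_nil, or_false] at this ⊢
  rcases this with e | e | e | e | e | e | e
  · exact absurd (inn_of_ρ e) n1
  · exact .inl e
  · exact .inr (.inl e)
  · exact .inr (.inr e)
  all_goals
    rw [e] at n2
    exact absurd n2 (by decide +kernel)

/-- By `L.nn` and `normQ` some `τ = α s α⁻¹ ∉ Tn`, so `ρ τ = 8580` or `ρ (s τ s) = 8580`; then `τ ω0` resp. `s τ s ω0` is inner. -/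
theorem ω_mem (h₀ : SA 2 A₀) (L : Lc 2 A₀ Qs B) : U4F.ω0 K4 ∈ B := by
  obtain ⟨α, hα, n⟩ : ∃ α ∈ B, α * cQ (el 16) * α⁻¹ ∉ Tn Qs := by
    by_contra c
    push Not at c
    exact L.nn fun α hα => normQ (c α hα)
  have k := keyQ h₀ L hα
  have sB := L.Tn_le h₀ q_sT
  have τB : α * cQ (el 16) * α⁻¹ ∈ B := mul_mem (mul_mem hα sB) (inv_mem hα)
  generalize α * cQ (el 16) * α⁻¹ = τ at *
  have key : ∀ σ ∈ B, cq.ρ σ = 8580 → U4F.ω0 K4 ∈ B := fun σ h e => by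
    simpa using mul_mem (inv_mem h) (L.Tn_le h₀ (inn_le_Tn (inn_of_ρ (α := σ * U4F.ω0 K4) (by
      rw [cq.ρ_mul, e, ρ_ω]; decide +kernel))))
  simp only [List.mem_cons, List.not_mem_nil, or_false] at k
  rcases k with e | e | e
  · exact absurd (mem_TnQ.2 (.inr e)) n
  · exact key τ τB e
  · exact key _ (mul_mem (mul_mem sB τB) sB) (by rw [cq.ρ_mul, cq.ρ_mul, e, ρ_s]; decide +kernel)

/-- With `g = 1, s ω0, ω0` in the three cases of `keyQ`, `β = g⁻¹ α` has `ρ (β s β⁻¹) = ρ (g⁻¹ τ g) = 33957` (`ω0⁻¹ = ω0`, `s⁻¹ = s`),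
so `normQ`, `L.ext` give `β = rQ φ`; `g ∈ B ⊓ C` by `ω_mem`, `h₀.conj`. -/
theorem genQ (h₀ : SA 2 A₀) (L : Lc 2 A₀ Qs B) {C : Subgroup (MulAut Qs)} (hω : U4F.ω0 K4 ∈ C) (h : ∀ φ ∈ A₀, rQ φ ∈ C) :
    B ≤ C := by
  intro α hα
  have k := keyQ h₀ L hα
  have key : ∀ g ∈ B, g ∈ C → cq.ρ (g⁻¹ * (α * cQ (el 16) * α⁻¹) * g) = 33957 → α ∈ C := fun g h1 h2 e => by
    obtain ⟨φ, h3, h4⟩ := L.ext (g⁻¹ * α) (mul_mem (inv_mem h1) hα) (normQ (mem_TnQ.2 (.inr (by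
      rw [← e, show g⁻¹ * α * cQ (el 16) * (g⁻¹ * α)⁻¹ = g⁻¹ * (α * cQ (el 16) * α⁻¹) * g by group]))))
    have := mul_mem h2 (h φ h3)
    rwa [show rQ φ = g⁻¹ * α from h4, mul_inv_cancel_left] at this
  have sB := L.Tn_le h₀ q_sT
  have sC : cQ (el 16) ∈ C := h _ (h₀.conj _)
  have ωB := ω_mem h₀ L
  simp only [List.mem_cons, List.not_mem_nil, or_false] at k
  rcases k with e | e | e
  · exact key 1 (one_mem _) (one_mem _) (by rwa [inv_one, one_mul, mul_one])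
  · refine key _ (mul_mem sB ωB) (mul_mem sC hω) ?_
    rw [mul_inv_rev, U4F.ω0_inv, inv_eq_of_mul_eq_one_right q_ss, cq.ρ_mul, cq.ρ_mul, e, cq.ρ_mul, cq.ρ_mul,
      ρ_s, ρ_ω]
    decide +kernel
  · refine key _ ωB hω ?_
    rw [U4F.ω0_inv, cq.ρ_mul, cq.ρ_mul, e, ρ_ω]
    decide +kernel

end Cfsg.Agent.U4T
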